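import Mathlib

/-!
A perfect central extension with kernel of order dividing three: the kernel is trivial when the Sylow 3-subgroup of
the quotient is cyclic, and otherwise elements of order three of the quotient have lifts with a non-trivial commutator.
-/

set_option autoImplicit false
set_option linter.unusedSectionVars false
set_option linter.style.haveILetI false

namespace Cfsg.Lib.MitchellThree.Residual

open Subgroup
open scoped commutatorElement

universe u v

variable {P : Type u} [Group P] [Finite P] {T : Type v} [Group T]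

/-- Central elements of an abelian Sylow subgroup of a perfect group. -/
theorem eq_one_of_central [Group.IsPerfect P] {r : ℕ} [Fact r.Prime] (S : Sylow r P)
    [IsMulCommutative (S : Subgroup P)] {z : P} (hz : z ∈ Subgroup.center P) (hzS : z ∈ (S : Subgroup P)) :
    z = 1 := by
  classical
  letI : CommGroup (S : Subgroup P) := { mul_comm := mul_comm' }
  haveI : (S : Subgroup P).FiniteIndex := inferInstance
  let τ : P →* (S : Subgroup P) := MonoidHom.transfer (MonoidHom.id (S : Subgroup P))
  have hτ : τ.ker = ⊤ := by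
    refine top_le_iff.1 ?_
    rw [← Group.isPerfect_def.1 (inferInstance : Group.IsPerfect P)]
    exact Abelianization.commutator_subset_ker τ
  have key : ∀ (k : ℕ) (g₀ : P), g₀⁻¹ * z ^ k * g₀ ∈ (S : Subgroup P) → g₀⁻¹ * z ^ k * g₀ = z ^ k :=
    fun k g₀ _ => by
      rw [mul_assoc, ← Subgroup.mem_center_iff.1 ((Subgroup.center P).pow_mem hz k) g₀, inv_mul_cancel_left]
  have h1 : τ z = 1 := MonoidHom.mem_ker.1 (hτ ▸ Subgroup.mem_top z)
  rw [MonoidHom.transfer_eq_pow _ z key] at h1
  have h2 : z ^ (S : Subgroup P).index = 1 := congrArg Subtype.val h1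
  obtain ⟨j, hj⟩ := S.2 ⟨z, hzS⟩
  have hj' : z ^ r ^ j = 1 := congrArg Subtype.val hj
  have h3 := pow_gcd_eq_one.2 ⟨hj', h2⟩
  rwa [(((Fact.out : r.Prime).coprime_iff_not_dvd.2 S.not_dvd_index).pow_left j).gcd_eq_one, pow_one] at h3

/-- A perfect central extension with kernel of order dividing three. -/
structure IsCover (π : P →* T) : Prop where
  perfect : Group.IsPerfect P
  surj : Function.Surjective π
  central : π.ker ≤ Subgroup.center P
  card : Nat.card π.ker ∣ 3

variable {π : P →* T} [Fact (Nat.Prime 3)]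

theorem IsCover.ker_le (h : IsCover π) (S : Sylow 3 P) : π.ker ≤ (S : Subgroup P) := by
  have hp : IsPGroup 3 π.ker := by
    rcases (Nat.dvd_prime (Fact.out : Nat.Prime 3)).1 h.card with e | e
    · exact IsPGroup.of_card (n := 0) (by rw [e, pow_zero])
    · exact IsPGroup.of_card (n := 1) (by rw [e, pow_one])
  obtain ⟨Q, hQ⟩ := hp.exists_le_sylow
  obtain ⟨g, rfl⟩ := MulAction.exists_smul_eq P Q S
  intro z hz
  rw [Sylow.coe_subgroup_smul]
  refine ⟨z, hQ hz, ?_⟩
  show g * z * g⁻¹ = z
  rw [Subgroup.mem_center_iff.1 (h.central hz) g, mul_inv_cancel_right]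

theorem IsCover.ker_eq_bot (h : IsCover π) (S : Sylow 3 P)
    [hS : IsCyclic ((S : Subgroup P).map π)] : π.ker = ⊥ := by
  haveI := h.perfect
  let f : (S : Subgroup P) →* ((S : Subgroup P).map π) := π.subgroupMap (S : Subgroup P)
  haveI : IsMulCommutative (S : Subgroup P) := by
    refine f.isMulCommutative_of_isCyclic_of_ker_le_center ?_
    intro x hx
    rw [Subgroup.mem_center_iff]
    intro y
    have hx' : π x = 1 := congrArg Subtype.val hx
    exact Subtype.ext (Subgroup.mem_center_iff.1 (h.central hx') y)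
  exact (Subgroup.eq_bot_iff_forall _).2 fun z hz => eq_one_of_central S (h.central hz) (h.ker_le S hz)

/-- Lifts of commuting elements of order three with a non-trivial commutator. -/
theorem IsCover.exists_partner (h : IsCover π) (hne : π.ker ≠ ⊥) [Finite T] (hT : ∀ S : Sylow 3 T, Nat.card S = 9)
    {g : P} (hg : π g ^ 3 = 1) (hg1 : π g ≠ 1) : ∃ k : P, k * g * k⁻¹ * g⁻¹ ∈ π.ker ∧ k * g * k⁻¹ * g⁻¹ ≠ 1 := by
  haveI := h.perfect
  obtain ⟨S₁, hS₁⟩ := (IsPGroup.of_card (p := 3) (n := 1) (by
    rw [pow_one, Nat.card_zpowers]; exact orderOf_eq_prime hg hg1) : IsPGroup 3 (zpowers (π g))).exists_le_sylow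
  have hker : IsPGroup 3 π.ker := by
    rcases (Nat.dvd_prime (Fact.out : Nat.Prime 3)).1 h.card with e | e
    · exact IsPGroup.of_card (n := 0) (by rw [e, pow_zero])
    · exact IsPGroup.of_card (n := 1) (by rw [e, pow_one])
  have hp : IsPGroup 3 ((S₁ : Subgroup T).comap π) := S₁.2.comap_of_ker_isPGroup π hker
  obtain ⟨S, hS⟩ := hp.exists_le_sylow
  have hSe : (S : Subgroup P) = (S₁ : Subgroup T).comap π := by
    refine le_antisymm ?_ hS
    have h1 : (S₁ : Subgroup T) ≤ (S : Subgroup P).map π := fun x hx => by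
      obtain ⟨y, rfl⟩ := h.surj x
      exact ⟨y, hS hx, rfl⟩
    have h2 := S₁.3 (S.2.map π) h1
    intro x hx
    show π x ∈ (S₁ : Subgroup T)
    rw [← h2]
    exact ⟨x, hx, rfl⟩
  have hgS : g ∈ (S : Subgroup P) := by rw [hSe]; exact hS₁ (mem_zpowers _)
  have hcomm9 : ∀ a b : (S₁ : Subgroup T), a * b = b * a := by
    have := IsPGroup.isMulCommutative_of_card_eq_prime_sq (p := 3) (G := (S₁ : Subgroup T))
      (show Nat.card (S₁ : Subgroup T) = 3 ^ 2 from hT S₁)
    exact fun a b => this.1.1 a b
  have hval : ∀ k ∈ (S : Subgroup P), k * g * k⁻¹ * g⁻¹ ∈ π.ker := fun k hk => by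
    rw [MonoidHom.mem_ker, map_mul, map_mul, map_mul, map_inv, map_inv]
    have := congrArg Subtype.val (hcomm9 ⟨π k, (hSe ▸ hk : k ∈ (S₁ : Subgroup T).comap π)⟩
      ⟨π g, hS₁ (mem_zpowers _)⟩)
    change π k * π g = π g * π k at this
    rw [this, mul_inv_cancel_right, mul_inv_cancel]
  by_contra hcon
  push Not at hcon
  have hgz : (⟨g, hgS⟩ : (S : Subgroup P)) ∈ center (S : Subgroup P) := by
    rw [mem_center_iff]
    intro k
    refine Subtype.ext ?_
    have := hcon k (hval k k.2)
    rw [mul_inv_eq_one, mul_inv_eq_iff_eq_mul] at this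
    exact this
  -- the centre has index at most three
  haveI hSc : IsMulCommutative (S : Subgroup P) := by
    let f : (S : Subgroup P) →* (S : Subgroup P) ⧸ center (S : Subgroup P) := QuotientGroup.mk' _
    haveI : IsCyclic ((S : Subgroup P) ⧸ center (S : Subgroup P)) := by
      let Z₀ : Subgroup (S : Subgroup P) := π.ker.subgroupOf (S : Subgroup P) ⊔ zpowers ⟨g, hgS⟩
      have hZ : Z₀ ≤ center (S : Subgroup P) := sup_le (fun x hx => mem_center_iff.2 fun y =>
        Subtype.ext (mem_center_iff.1 (h.central hx) y)) (zpowers_le.2 hgz)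
      have hidx : Z₀.index ∣ 3 := by
        let f₁ : (S : Subgroup P) →* (S₁ : Subgroup T) :=
          { toFun := fun x => ⟨π x, (hSe ▸ x.2 : (x : P) ∈ (S₁ : Subgroup T).comap π)⟩
            map_one' := Subtype.ext (map_one π)
            map_mul' := fun a b => Subtype.ext (map_mul π _ _) }
        have hf₁ : Function.Surjective f₁ := fun x => by
          obtain ⟨y, hy⟩ := h.surj x
          exact ⟨⟨y, hSe.symm ▸ (show π y ∈ (S₁ : Subgroup T) by rw [hy]; exact x.2)⟩, Subtype.ext hy⟩
        have hk : f₁.ker = π.ker.subgroupOf (S : Subgroup P) := by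
          ext x
          exact ⟨fun e => congrArg Subtype.val e, fun e => Subtype.ext e⟩
        have he : Z₀ = (zpowers (f₁ ⟨g, hgS⟩)).comap f₁ := by
          rw [← MonoidHom.map_zpowers f₁, comap_map_eq, hk, sup_comm]
        rw [he, index_comap_of_surjective _ hf₁]
        have hg3 : Nat.card (zpowers (f₁ ⟨g, hgS⟩)) = 3 := by
          rw [Nat.card_zpowers, ← Subgroup.orderOf_coe]
          exact orderOf_eq_prime hg hg1
        have := (zpowers (f₁ ⟨g, hgS⟩)).index_mul_card
        rw [hg3, show Nat.card (S₁ : Subgroup T) = 9 from hT S₁] at this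
        exact ⟨1, by omega⟩
      have hdvd : (center (S : Subgroup P)).index ∣ 3 := (index_dvd_of_le hZ).trans hidx
      rcases (Nat.dvd_prime (Fact.out : Nat.Prime 3)).1 hdvd with e | e
      · haveI : Subsingleton ((S : Subgroup P) ⧸ center (S : Subgroup P)) :=
          (Nat.card_eq_one_iff_unique.1 e).1
        infer_instance
      · exact isCyclic_of_prime_card e
    exact isMulCommutative_of_isCyclic_quotient_center_self _
  exact hne ((eq_bot_iff_forall _).2 fun z hz => eq_one_of_central S (h.central hz) (h.ker_le S hz))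

end Cfsg.Lib.MitchellThree.Residual
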