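import Mathlib

/-!
Trace identities for three by three matrices of determinant one and finite order.
-/

set_option autoImplicit false
set_option linter.unusedSectionVars false

namespace Cfsg.Lib.MitchellThree.Residual

open Matrix
open scoped MatrixGroups

universe u

variable {F : Type u} [Field F]

local notation "MM" => Matrix (Fin 3) (Fin 3) F
local notation "GG" => GL (Fin 3) F

/-- Determinant one. -/
def DetOne (g : GL (Fin 3) F) : Prop := (g : Matrix (Fin 3) (Fin 3) F).det = 1

/-- The trace. -/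
abbrev tr (g : GL (Fin 3) F) : F := (g : Matrix (Fin 3) (Fin 3) F).trace

theorem tr_conj (h g : GG) : tr (h * g * h⁻¹) = tr g := by
  show ((h * g * h⁻¹ : GG) : MM).trace = _
  rw [Units.val_mul, Units.val_mul, Matrix.trace_mul_cycle, ← Units.val_mul, inv_mul_cancel, Units.val_one, one_mul]

theorem tr_one : tr (1 : GG) = 3 := by
  show (((1 : GG) : MM)).trace = 3
  rw [Units.val_one, Matrix.trace_one, Fintype.card_fin]
  norm_num

theorem cayley {g : GG} (hd : DetOne g) :
    (g : MM) ^ 3 - tr g • (g : MM) ^ 2 + tr g⁻¹ • (g : MM) - 1 = 0 := by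
  have hinv : ((g⁻¹ : GG) : MM) = Matrix.adjugate (g : MM) := by
    rw [Matrix.coe_units_inv, Matrix.inv_def, hd]; simp
  have hd' : (g : MM).det = 1 := hd
  show (g : MM) ^ 3 - (g : MM).trace • (g : MM) ^ 2 + ((g⁻¹ : GG) : MM).trace • (g : MM) - 1 = 0
  rw [hinv]
  generalize (g : MM) = A at hd'
  rw [Matrix.det_fin_three] at hd'
  ext i j
  fin_cases i <;> fin_cases j <;>
    simp [pow_succ, Matrix.mul_apply, Fin.sum_univ_three, Matrix.trace_fin_three, Matrix.adjugate_fin_three] <;>
    first | ring1 | linear_combination hd' | linear_combination -hd'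

theorem tr_sq {g : GG} (hd : DetOne g) : tr (g * g) = tr g ^ 2 - 2 * tr g⁻¹ := by
  have h := congrArg (fun M : MM => (((g⁻¹ : GG) : MM) * M).trace) (cayley hd)
  simp only [mul_sub, mul_add, mul_smul_comm, mul_one, pow_succ, pow_zero, one_mul, ← Units.val_mul,
    inv_mul_cancel, inv_mul_cancel_left, Units.val_one, Matrix.trace_sub, Matrix.trace_add, Matrix.trace_smul,
    smul_eq_mul, mul_zero, Matrix.trace_zero, Matrix.trace_one, Fintype.card_fin] at h
  rw [show g⁻¹ * (g * g * g) = g * g by group] at h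
  show ((g * g : GG) : MM).trace = _
  push_cast at h ⊢
  simp only [tr, Matrix.coe_units_inv] at h ⊢
  linear_combination h

theorem tr_cube {g : GG} (hd : DetOne g) :
    tr (g * g * g) = tr g * tr (g * g) - tr g⁻¹ * tr g + 3 := by
  have h := congrArg Matrix.trace (cayley hd)
  simp only [pow_succ, pow_zero, one_mul, Matrix.trace_sub, Matrix.trace_add, Matrix.trace_smul, smul_eq_mul,
    Matrix.trace_zero, Matrix.trace_one, Fintype.card_fin] at h
  show ((g * g * g : GG) : MM).trace = _ * ((g * g : GG) : MM).trace - _ + 3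
  simp only [Units.val_mul]
  push_cast at h ⊢
  linear_combination h

variable [Finite F]

/-- An element of order a power of the characteristic has trace three. -/
theorem tr_unipotent {p : ℕ} [Fact p.Prime] [CharP F p] {g : GG} {k : ℕ} (h : g ^ p ^ k = 1) : tr g = 3 := by
  have hn : IsNilpotent ((g : MM) - 1) := ⟨p ^ k, by
    rw [sub_pow_char_pow_of_commute (p := p) (h := Commute.one_right (g : MM)), one_pow,
      ← Units.val_pow_eq_pow_val, h, Units.val_one, sub_self]⟩
  have h1 := (Matrix.isNilpotent_trace_of_isNilpotent hn).eq_zero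
  rw [Matrix.trace_sub, sub_eq_zero] at h1
  rw [← tr_one (F := F), tr, h1]
  rfl

theorem trace_pow_char {p : ℕ} [Fact p.Prime] [CharP F p] (M : MM) : (M ^ p).trace = M.trace ^ p := by
  have hp := (Fact.out : p.Prime)
  have h : (M ^ p).charpoly = M.charpoly.map (frobenius F p) := by
    refine Polynomial.expand_injective hp.pos ?_
    rw [← Polynomial.map_expand, Polynomial.map_frobenius_expand]
    unfold Matrix.charpoly
    rw [AlgHom.map_det, ← Matrix.coe_detMonoidHom,
      ← (Matrix.detMonoidHom : Matrix (Fin 3) (Fin 3) (Polynomial F) →* Polynomial F).map_pow]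
    refine congrArg Matrix.detMonoidHom ?_
    refine matPolyEquiv.injective ?_
    rw [map_pow, matPolyEquiv_charmatrix, sub_pow_char_pow_of_commute' , ← Polynomial.C_pow]
    · exact (id (matPolyEquiv_eq_X_pow_sub_C p M) :)
  rw [Matrix.trace_eq_neg_charpoly_coeff, Matrix.trace_eq_neg_charpoly_coeff, h, Polynomial.coeff_map,
    ← frobenius_def, map_neg]
where
  sub_pow_char_pow_of_commute' {p : ℕ} [Fact p.Prime] [CharP F p] {M : MM} :
      (Polynomial.X - Polynomial.C M) ^ p = Polynomial.X ^ p - Polynomial.C M ^ p :=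
    sub_pow_char_of_commute (p := p) (h := (Polynomial.commute_X _))

/-- The Frobenius map on traces. -/
theorem tr_pow_char {p : ℕ} [Fact p.Prime] [CharP F p] (g : GG) (k : ℕ) : tr (g ^ p ^ k) = tr g ^ p ^ k := by
  induction k with
  | zero => simp
  | succ k ih =>
    rw [pow_succ, pow_mul, pow_mul, ← ih]
    show (((g ^ p ^ k) ^ p : GG) : MM).trace = _
    rw [Units.val_pow_eq_pow_val]
    exact trace_pow_char _

/-- A matrix whose characteristic polynomial is that of the identity is unipotent. -/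
theorem eq_one_of_tr {p : ℕ} [hp : Fact p.Prime] [CharP F p] {g : GG} (hd : DetOne g) {n : ℕ} (hn : g ^ n = 1)
    (hpn : ¬ p ∣ n) (ht : tr g = 3) (hs : tr g⁻¹ = 3) : g = 1 := by
  have hc := cayley hd
  rw [ht, hs] at hc
  have h0 : ((g : MM) - 1) ^ 3 = 0 := by
    rw [← hc]
    rw [pow_succ, pow_succ, pow_one]
    simp only [sub_mul, mul_sub, one_mul, mul_one, pow_succ, pow_zero]
    module
  have h3 : ((g : MM) - 1) ^ p ^ 2 = 0 :=
    pow_eq_zero_of_le (le_trans (by norm_num) (Nat.pow_le_pow_left hp.out.two_le 2)) h0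
  rw [sub_pow_char_pow_of_commute (p := p) (h := Commute.one_right (g : MM)), one_pow, sub_eq_zero,
    ← Units.val_pow_eq_pow_val] at h3
  have h4 : g ^ p ^ 2 = 1 := Units.ext h3
  have h5 := pow_gcd_eq_one.2 ⟨h4, hn⟩
  rwa [Nat.Coprime.pow_left 2 ((Nat.Prime.coprime_iff_not_dvd hp.out).2 hpn), pow_one] at h5

/-- An element of order seven conjugate to its square. -/
theorem seven_relation {g h : GG} (hd : DetOne g) (h7 : g ^ 7 = 1) (hc : h * g * h⁻¹ = g * g)
    {p : ℕ} [hp : Fact p.Prime] [CharP F p] (hp7 : p ≠ 7) (hg : g ≠ 1) :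
    tr g + tr g⁻¹ = -1 ∧ tr g * tr g⁻¹ = 2 := by
  have hd' : DetOne g⁻¹ := by
    have h1 : (g : MM).det * ((g⁻¹ : GG) : MM).det = 1 := by
      rw [← Matrix.det_mul, ← Units.val_mul, mul_inv_cancel, Units.val_one, Matrix.det_one]
    rwa [show (g : MM).det = 1 from hd, one_mul] at h1
  have e1 : tr (g * g) = tr g := by rw [← hc, tr_conj]
  have e2 : tr (g⁻¹ * g⁻¹) = tr g⁻¹ := by
    rw [← _root_.mul_inv_rev, ← hc, _root_.mul_inv_rev, _root_.mul_inv_rev, inv_inv, ← mul_assoc, tr_conj]
  have e4 : tr (g * g * g) = tr g⁻¹ := by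
    have e : h * (g⁻¹ * g⁻¹) * h⁻¹ = g * g * g := by
      calc h * (g⁻¹ * g⁻¹) * h⁻¹ = (h * g * h⁻¹)⁻¹ * (h * g * h⁻¹)⁻¹ := by group
        _ = (g * g)⁻¹ * (g * g)⁻¹ * g ^ 7 := by rw [hc, h7, mul_one]
        _ = g * g * g := by group; simp [pow_succ, zpow_natCast]
    rw [← e, tr_conj, e2]
  have r1 := tr_sq hd
  have r2 := tr_sq hd'
  have r3 := tr_cube hd
  rw [inv_inv] at r2
  rw [e1] at r1 r3
  rw [e2] at r2
  rw [e4] at r3
  have hu : (tr g + tr g⁻¹ + 1) * (tr g + tr g⁻¹ - 6) = 0 := by linear_combination -3 * r1 - r2 + 2 * r3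
  rcases mul_eq_zero.1 hu with hu | hu
  · exact ⟨by linear_combination hu, by linear_combination r3 - r1 + hu⟩
  exfalso
  have hv : tr g * tr g⁻¹ = 9 := by linear_combination r3 - r1 + hu
  have ht : tr g = 3 := by
    have : (tr g - 3) * (tr g - 3) = 0 := by linear_combination tr g * hu - hv
    exact sub_eq_zero.1 (mul_self_eq_zero.1 this)
  exact hg (eq_one_of_tr hd h7 (fun hdvd => hp7 ((Nat.prime_dvd_prime_iff_eq hp.out (by norm_num)).1 hdvd)) ht
    (by linear_combination hu - ht))

/-- A real element of order five. -/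
theorem five_relation {g h : GG} (hd : DetOne g) (h5 : g ^ 5 = 1) (hc : h * g * h⁻¹ = g⁻¹)
    {p : ℕ} [hp : Fact p.Prime] [CharP F p] (hp5 : p ≠ 5) (hg : g ≠ 1) :
    tr g ^ 2 - tr g - 1 = 0 ∧ tr (g * g) = tr g ^ 2 - 2 * tr g ∧ tr g⁻¹ = tr g := by
  have e1 : tr g⁻¹ = tr g := by rw [← hc, tr_conj]
  have r1 := tr_sq hd
  rw [e1] at r1
  have e3 : tr (g * g * g) = tr (g * g) := by
    have e : h * (g * g) * h⁻¹ = g * g * g := by
      calc h * (g * g) * h⁻¹ = (h * g * h⁻¹) * (h * g * h⁻¹) := by group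
        _ = g⁻¹ * g⁻¹ * g ^ 5 := by rw [hc, h5, mul_one]
        _ = g * g * g := by group; simp [pow_succ, zpow_natCast]
    rw [← e, tr_conj]
  have r3 := tr_cube hd
  rw [e3, e1] at r3
  have hu : (tr g - 3) * (tr g ^ 2 - tr g - 1) = 0 := by linear_combination -r3 - (tr g - 1) * r1
  rcases mul_eq_zero.1 hu with hu | hu
  · exfalso
    exact hg (eq_one_of_tr hd h5 (fun hdvd => hp5 ((Nat.prime_dvd_prime_iff_eq hp.out (by norm_num)).1 hdvd))
      (sub_eq_zero.1 hu) (e1.trans (sub_eq_zero.1 hu)))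
  · exact ⟨hu, r1, e1⟩

end Cfsg.Lib.MitchellThree.Residual
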