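import Cfsg.Agent.MitchellThree.Residual.Setting
import Cfsg.Agent.MitchellThree.Elation.Main

/-!
A core generated by its transvections is the special linear group of the field or the special unitary group of a
unitary form.
-/

set_option autoImplicit false
set_option linter.unusedSectionVars false
set_option linter.style.haveILetI false

namespace Cfsg.Lib.MitchellThree.Residual

open Matrix Subgroup Cfsg.Geo Cfsg.Lib.Classical Cfsg.Lib.MitchellThree.Elation
open scoped MatrixGroups commutatorElement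

universe u

variable {F : Type u} [Field F] [Finite F]

local notation "MM" => Matrix (Fin 3) (Fin 3) F
local notation "GG" => GL (Fin 3) F

/-- The transvections of the core generate it. -/
theorem Core.transGen_eq {P : Subgroup (GL (Fin 3) F)} (C : Core P) {x φ : Fin 3 → F} (hx : x ≠ 0) (hφ : φ ≠ 0)
    (h : Cfsg.Lib.Classical.SLThree.Elation.Inc P x φ) : transGen P = P := by
  haveI := C.simple
  haveI : Fintype F := Fintype.ofFinite F
  obtain ⟨h0, g, hg, hv⟩ := h
  have hgT : g ∈ transGen P := Subgroup.subset_closure ⟨hg, x, φ, h0, hv⟩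
  have hgns : g ∉ scalars (Fin 3) F := by
    intro hs
    obtain ⟨c, hc⟩ := (mem_scalars_iff g).1 hs
    have he : vecMulVec x φ = ((c : F) - 1) • (1 : MM) := by
      rw [sub_smul, one_smul, ← hc, hv, add_sub_cancel_left]
    have hsq : vecMulVec x φ * vecMulVec x φ = 0 := by
      rw [vecMulVec_mul_vecMulVec, h0, zero_smul, vecMulVec_zero]
    rw [he, smul_mul_smul_comm, one_mul] at hsq
    have hc1 : ((c : F) - 1) * ((c : F) - 1) = 0 := by
      have := congrFun (congrFun hsq 0) 0
      simpa using this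
    rw [mul_self_eq_zero] at hc1
    rw [hc1, zero_smul] at he
    obtain ⟨i, hi⟩ := Function.ne_iff.1 hx
    obtain ⟨j, hj⟩ := Function.ne_iff.1 hφ
    have := congrFun (congrFun he i) j
    rw [Matrix.vecMulVec_apply, Matrix.zero_apply] at this
    exact mul_ne_zero hi hj this
  haveI hn : ((transGen P).subgroupOf P).Normal :=
    (normal_subgroupOf_iff_le_normalizer transGen_le).2 transGen_normal
  haveI := hn.map (proj P) (QuotientGroup.mk'_surjective _)
  refine le_antisymm transGen_le ?_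
  rcases IsSimpleGroup.eq_bot_or_eq_top_of_normal (((transGen P).subgroupOf P).map (proj P)) inferInstance with e | e
  · exfalso
    refine hgns (mem_ker_proj.1 ((mem_bot (G := Quot3 P)).1 ?_) : ((⟨g, hg⟩ : P) : GG) ∈ scalars (Fin 3) F)
    rw [← e]
    exact ⟨⟨g, hg⟩, mem_subgroupOf.2 hgT, rfl⟩
  · have hall : ∀ a ∈ P, ∃ t ∈ transGen P, ∀ b : GG, Commute (t⁻¹ * a) b := fun a ha => by
      obtain ⟨t, ht, hta⟩ : proj P ⟨a, ha⟩ ∈ ((transGen P).subgroupOf P).map (proj P) := e ▸ Subgroup.mem_top _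
      refine ⟨t, mem_subgroupOf.1 ht, scalar_commute ?_⟩
      have := mem_ker_proj.1 (show proj P (t⁻¹ * ⟨a, ha⟩) = 1 by rw [map_mul, map_inv, hta, inv_mul_cancel])
      exact this
    have key : ⁅P, P⁆ ≤ transGen P := by
      rw [commutator_le]
      intro a ha b hb
      obtain ⟨s, hs, hsc⟩ := hall a ha
      obtain ⟨t, ht, htc⟩ := hall b hb
      have e1 : ⁅a, b⁆ = ⁅s, t⁆ := by
        obtain ⟨z, rfl⟩ : ∃ z, a = s * z := ⟨s⁻¹ * a, (mul_inv_cancel_left s a).symm⟩
        obtain ⟨w, rfl⟩ : ∃ w, b = t * w := ⟨t⁻¹ * b, (mul_inv_cancel_left t b).symm⟩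
        rw [inv_mul_cancel_left] at hsc htc
        rw [commutatorElement_def, commutatorElement_def]
        calc s * z * (t * w) * (s * z)⁻¹ * (t * w)⁻¹
            = s * (z * (t * w)) * (z⁻¹ * s⁻¹) * (w⁻¹ * t⁻¹) := by group
          _ = s * t * (w * s⁻¹) * w⁻¹ * t⁻¹ := by rw [(hsc (t * w)).eq]; group
          _ = _ := by rw [(htc s⁻¹).eq]; group
      rw [e1, commutatorElement_def]
      exact mul_mem (mul_mem (mul_mem hs ht) (inv_mem hs)) (inv_mem ht)
    rwa [C.perfect] at key

theorem Core.subfield_top {P : Subgroup (GL (Fin 3) F)} (C : Core P) {k : Subfield F} {Q : GG}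
    {X : Subgroup (GL (Fin 3) k)} (h : conjG Q P = X.map (Elation.subMap k)) : k = ⊤ := by
  by_contra hk
  refine C.no_subfield k hk ⟨Q, ?_⟩
  rintro _ ⟨g, hg, rfl⟩ i j
  have hmem : Q * g * Q⁻¹ ∈ conjG Q P := ⟨g, hg, rfl⟩
  rw [h] at hmem
  obtain ⟨y, -, hy⟩ := hmem
  show ((Q * g * Q⁻¹ : GG) : MM) i j ∈ k
  rw [← hy]
  exact Subtype.prop _

/-- A core equal to the transvection group, conjugate to one of the two groups over a subfield. -/
theorem Core.elation_shape {P : Subgroup (GL (Fin 3) F)} (C : Core P) [Fintype F]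
    (h : (∃ (Q : GG) (k : Subfield F), conjG Q P = (specialLinear (Fin 3) k).map (Elation.subMap k)) ∨
      (∃ (Q : GG) (K : Subfield F) (m : ℕ), Nat.card K = m ^ 2 ∧ 2 ≤ m ∧
        conjG Q P = (Cfsg.GU 3 K m ⊓ specialLinear (Fin 3) K).map (Elation.subMap K))) :
    P = specialLinear (Fin 3) F ∨
      ∃ (Q : GG) (m : ℕ), Fintype.card F = m ^ 2 ∧ 2 ≤ m ∧
        conjG Q P = Cfsg.GU 3 F m ⊓ specialLinear (Fin 3) F := by
  rcases h with ⟨Q, k, hk⟩ | ⟨Q, K, m, hm, hm2, hK⟩
  · left
    obtain rfl := C.subfield_top hk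
    have hS : (specialLinear (Fin 3) (⊤ : Subfield F)).map (Elation.subMap ⊤) = specialLinear (Fin 3) F := by
      ext g
      constructor
      · rintro ⟨y, hy, rfl⟩
        refine MonoidHom.mem_ker.2 (Units.ext ?_)
        have h1 := congrArg Units.val (MonoidHom.mem_ker.1 hy)
        rw [Matrix.GeneralLinearGroup.val_det_apply] at h1 ⊢
        show ((y : Matrix (Fin 3) (Fin 3) (⊤ : Subfield F)).map (⊤ : Subfield F).subtype).det = 1
        have h2 := congrArg (⊤ : Subfield F).subtype h1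
        rw [RingHom.map_det] at h2
        simpa using h2
      · intro hg
        refine ⟨Matrix.GeneralLinearGroup.map (Subfield.topEquiv.symm.toRingHom) g, ?_, Units.ext (Matrix.ext fun i j => rfl)⟩
        refine MonoidHom.mem_ker.2 (Units.ext ?_)
        have h1 := congrArg Units.val (MonoidHom.mem_ker.1 hg)
        rw [Matrix.GeneralLinearGroup.val_det_apply] at h1 ⊢
        show ((g : MM).map (Subfield.topEquiv.symm.toRingHom : F →+* (⊤ : Subfield F))).det = 1
        have h2 := congrArg (Subfield.topEquiv.symm.toRingHom : F →+* (⊤ : Subfield F)) h1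
        rw [RingHom.map_det] at h2
        simpa using h2
    rw [hS] at hk
    rw [← conjG_inv Q P, hk]
    haveI : (specialLinear (Fin 3) F).Normal := MonoidHom.normal_ker _
    refine le_antisymm ?_ fun g hg => ⟨Q * g * Q⁻¹, Subgroup.Normal.conj_mem inferInstance g hg Q, by
      simp [mul_assoc]⟩
    rintro _ ⟨g, hg, rfl⟩
    exact Subgroup.Normal.conj_mem inferInstance g hg Q⁻¹
  · right
    obtain rfl := C.subfield_top hK
    rw [Nat.card_congr Subfield.topEquiv.toEquiv, Nat.card_eq_fintype_card] at hm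
    refine ⟨Q, m, hm, hm2, hK.trans ?_⟩
    have hherm : ∀ u v : Fin 3 → (⊤ : Subfield F), ((Cfsg.hermForm 3 (⊤ : Subfield F) m u v : (⊤ : Subfield F)) : F) =
        Cfsg.hermForm 3 F m (fun i => (u i : F)) (fun i => (v i : F)) := fun u v => by
      simp [Cfsg.hermForm]
    have hmul : ∀ (y : GL (Fin 3) (⊤ : Subfield F)) (u : Fin 3 → (⊤ : Subfield F)),
        ((Elation.subMap ⊤ y : GG) : MM) *ᵥ (fun i => (u i : F)) =
          fun i => (((y : Matrix (Fin 3) (Fin 3) (⊤ : Subfield F)) *ᵥ u) i : F) := fun y u =>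
      funext fun i => (RingHom.map_mulVec (⊤ : Subfield F).subtype (y : Matrix (Fin 3) (Fin 3) (⊤ : Subfield F)) u i).symm
    have hdet : ∀ y : GL (Fin 3) (⊤ : Subfield F), Elation.subMap ⊤ y ∈ specialLinear (Fin 3) F ↔
        y ∈ specialLinear (Fin 3) (⊤ : Subfield F) := fun y => by
      rw [specialLinear, specialLinear, MonoidHom.mem_ker, MonoidHom.mem_ker, Units.ext_iff, Units.ext_iff,
        Matrix.GeneralLinearGroup.val_det_apply, Matrix.GeneralLinearGroup.val_det_apply]
      show ((y : Matrix (Fin 3) (Fin 3) (⊤ : Subfield F)).map (⊤ : Subfield F).subtype).det = 1 ↔ _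
      rw [show (y : Matrix (Fin 3) (Fin 3) (⊤ : Subfield F)).map (⊤ : Subfield F).subtype =
        (⊤ : Subfield F).subtype.mapMatrix (y : Matrix (Fin 3) (Fin 3) (⊤ : Subfield F)) from rfl, ← RingHom.map_det]
      simp
    ext g
    constructor
    · rintro ⟨y, ⟨hy1, hy2⟩, rfl⟩
      refine ⟨fun u v => ?_, (hdet y).2 hy2⟩
      let u' : Fin 3 → (⊤ : Subfield F) := fun i => ⟨u i, Subfield.mem_top _⟩
      let v' : Fin 3 → (⊤ : Subfield F) := fun i => ⟨v i, Subfield.mem_top _⟩
      have h1 := congrArg (fun a : (⊤ : Subfield F) => (a : F)) (hy1 u' v')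
      simp only [hherm] at h1
      show Cfsg.hermForm 3 F m (((Elation.subMap ⊤ y : GG) : MM) *ᵥ u) _ = _
      rw [show u = fun i => (u' i : F) from rfl, show v = fun i => (v' i : F) from rfl]
      show Cfsg.hermForm 3 F m _ (((Elation.subMap ⊤ y : GG) : MM) *ᵥ fun i => (v' i : F)) = _
      rw [hmul, hmul]
      exact h1
    · rintro ⟨hg1, hg2⟩
      refine ⟨Matrix.GeneralLinearGroup.map (Subfield.topEquiv.symm.toRingHom) g, ?_,
        Units.ext (Matrix.ext fun i j => rfl)⟩
      set y := Matrix.GeneralLinearGroup.map (n := Fin 3) (Subfield.topEquiv.symm.toRingHom) g with hy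
      have hyg : Elation.subMap ⊤ y = g := Units.ext (Matrix.ext fun i j => rfl)
      refine ⟨fun u v => Subtype.ext ?_, (hdet y).1 (hyg.symm ▸ hg2)⟩
      show ((Cfsg.hermForm 3 (⊤ : Subfield F) m
        ((y : Matrix (Fin 3) (Fin 3) (⊤ : Subfield F)) *ᵥ u) ((y : Matrix (Fin 3) (Fin 3) (⊤ : Subfield F)) *ᵥ v) :
          (⊤ : Subfield F)) : F) = _
      rw [hherm, hherm, ← hmul, ← hmul, hyg]
      exact hg1 _ _

omit [Finite F] in
theorem irr_of_absIrred {P : Subgroup (GL (Fin 3) F)} (h : ActsAbsolutelyIrreducibly (matrixSet P)) :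
    SLThree.Irr P := fun S hS => h.1 S (by
  rintro _ ⟨g, hg, rfl⟩ _ ⟨v, hv, rfl⟩
  rw [Matrix.toLin'_apply]
  exact hS g hg v hv)

/-- The conclusion in odd characteristic. -/
theorem Core.of_transvection {P : Subgroup (GL (Fin 3) F)} (C : Core P) [Fintype F] (h2 : (2 : F) ≠ 0)
    {x φ : Fin 3 → F} (hx : x ≠ 0) (hφ : φ ≠ 0) (h : Cfsg.Lib.Classical.SLThree.Elation.Inc P x φ) :
    P = specialLinear (Fin 3) F ∨
      ∃ (Q : GG) (m : ℕ), Fintype.card F = m ^ 2 ∧ 2 ≤ m ∧
        conjG Q P = Cfsg.GU 3 F m ⊓ specialLinear (Fin 3) F := by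
  refine C.elation_shape ?_
  have hT := C.transGen_eq hx hφ h
  rcases elation_recognition h2 (irr_of_absIrred C.absIrred) ⟨x, φ, hx, hφ, h⟩ with ⟨Q, k, e⟩ | ⟨Q, K, m, h1, h3, e⟩
  · exact Or.inl ⟨Q, k, by rwa [hT] at e⟩
  · exact Or.inr ⟨Q, K, m, h1, by omega, by rwa [hT] at e⟩

end Cfsg.Lib.MitchellThree.Residual
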