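import Cfsg.Agent.MitchellThree.PslData
import Cfsg.Agent.MitchellThree.GLTwo
import Cfsg.Agent.MitchellThree.Seven
import Cfsg.Agent.Known.SLTwo.Unip
import Cfsg.Agent.Classical.Misc.QuaternionElusive
import Cfsg.Agent.S0262

/-!
Orders and conjugacy facts for elements of two-dimensional projective special linear groups and of the alternating
groups of degree six and seven.
-/

set_option autoImplicit false
set_option linter.unusedSectionVars false
set_option linter.style.haveILetI false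

namespace Cfsg.Lib.MitchellThree.Residual

open Matrix Equiv
open scoped MatrixGroups

section psl

variable {K : Type} [Field K] [Fintype K]

local notation "P2" => Matrix.ProjectiveSpecialLinearGroup (Fin 2) K

theorem trace_inv (M : SL(2, K)) :
    ((M⁻¹ : SL(2, K)) : Matrix (Fin 2) (Fin 2) K).trace = (M : Matrix (Fin 2) (Fin 2) K).trace := by
  rw [Matrix.SpecialLinearGroup.coe_inv, Matrix.adjugate_fin_two]
  simp [Matrix.trace_fin_two, add_comm]

/-- In characteristic two every element is real. -/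
theorem sl_real_two (h2 : (2 : K) = 0) (M : SL(2, K)) : ∃ s : SL(2, K), s * M * s⁻¹ = M⁻¹ := by
  obtain ⟨x, y, z, hdet, hlin⟩ : ∃ x y z : K, x * x - y * z = 1 ∧
      x * M.1 0 0 + y * M.1 1 0 + (z * M.1 0 1 + x * M.1 1 1) = 0 := by
    by_cases hc : M.1 1 0 = 0
    · by_cases hb : M.1 0 1 = 0
      · exact ⟨0, 1, 1, by linear_combination -h2, by rw [hc, hb]; ring⟩
      · refine ⟨1, 0, -(M.1 0 0 + M.1 1 1) / M.1 0 1, by ring, ?_⟩
        field_simp
        ring
    · refine ⟨1, -(M.1 0 0 + M.1 1 1) / M.1 1 0, 0, by ring, ?_⟩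
      field_simp
      ring
  let s : SL(2, K) := ⟨!![x, y; z, x], by rw [Matrix.det_fin_two_of]; exact hdet⟩
  have hsq : ∀ N : SL(2, K), N.1.trace = 0 → N * N = 1 := fun N hN => by
    have hd := N.2
    rw [Matrix.det_fin_two] at hd
    rw [Matrix.trace_fin_two] at hN
    refine Subtype.ext ?_
    rw [Matrix.SpecialLinearGroup.coe_mul, Matrix.SpecialLinearGroup.coe_one]
    ext i j
    fin_cases i <;> fin_cases j <;> simp [Matrix.mul_apply, Fin.sum_univ_two]
    · linear_combination N.1 0 0 * hN - hd - h2 * 1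
    · linear_combination N.1 0 1 * hN
    · linear_combination N.1 1 0 * hN
    · linear_combination N.1 1 1 * hN - hd - h2 * 1
  have hs : s * s = 1 := hsq s (by simp [s, Matrix.trace_fin_two]; linear_combination x * h2)
  have hsM : s * M * (s * M) = 1 := hsq _ (by
    rw [Matrix.SpecialLinearGroup.coe_mul, Matrix.trace_fin_two]
    simp [s, Matrix.mul_apply, Fin.sum_univ_two]
    linear_combination hlin)
  refine ⟨s, ?_⟩
  rw [inv_eq_of_mul_eq_one_right hs]
  exact eq_inv_of_mul_eq_one_left (by rw [← hsM]; group)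

/-- Real elements, or elements of order the characteristic. -/
theorem psl_real_or_char {r : ℕ} [Fact r.Prime] [CharP K r] (x : P2) :
    (∃ h : P2, h * x * h⁻¹ = x⁻¹) ∨ x ^ r = 1 := by
  obtain ⟨M, rfl⟩ := QuotientGroup.mk'_surjective (Subgroup.center SL(2, K)) x
  have key : ∀ s : SL(2, K), s * M * s⁻¹ = M⁻¹ →
      ∃ h : P2, h * Two.pr M * h⁻¹ = (Two.pr M)⁻¹ := fun s hs =>
    ⟨Two.pr s, by rw [← map_inv, ← map_mul, ← map_mul, hs, map_inv]⟩
  by_cases h2 : (2 : K) = 0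
  · obtain ⟨s, hs⟩ := sl_real_two h2 M
    exact Or.inl (key s hs)
  by_cases ht : (M : Matrix (Fin 2) (Fin 2) K).trace ^ 2 = 4
  · right
    obtain ⟨c, hc1, hc⟩ : ∃ c : K, c * c = 1 ∧ (M : Matrix (Fin 2) (Fin 2) K).trace = c + c := by
      refine ⟨(M : Matrix (Fin 2) (Fin 2) K).trace / 2, ?_, by field_simp; ring⟩
      field_simp
      linear_combination ht
    have h := Cfsg.Lib.GLTwo.pow_char_of_trace r hc1 hc
    rw [← map_pow]
    refine (QuotientGroup.eq_one_iff (M ^ r)).2 (Matrix.SpecialLinearGroup.mem_center_iff.2 ⟨c ^ r, ?_, ?_⟩)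
    · rw [Fintype.card_fin, ← pow_mul, mul_comm, pow_mul, pow_two, hc1, one_pow]
    · rw [h, Matrix.scalar_apply, Matrix.smul_one_eq_diagonal]
  · have hodd : Odd (Fintype.card K) := Nat.odd_iff.2 (FiniteField.odd_card_of_char_ne_two fun e => h2 (by
      haveI : CharP K 2 := ringChar.of_eq e
      exact_mod_cast CharP.cast_eq_zero K 2))
    obtain ⟨s, hs⟩ := Cfsg.Lib.Classical.QuatElusive.conj_of_trace hodd ht M M⁻¹ rfl (trace_inv M)
    exact Or.inl (key s hs)

theorem pr_upper (c : {c : K // c * c = 1}) (a : K) :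
    Two.pr (Cfsg.Lib.GLTwo.upper c a) = Two.U ((c : K) * a) := by
  refine Two.pr_eq_iff.2 ⟨(c : K), c.2, ?_⟩
  ext i j
  fin_cases i <;> fin_cases j <;> simp [Two.uni, Cfsg.Lib.GLTwo.upper, c.2]

/-- With a square root of minus one every element is real. -/
theorem psl_real (h2 : (2 : K) ≠ 0) {s : K} (hs : s * s = -1) (x : P2) : ∃ h : P2, h * x * h⁻¹ = x⁻¹ := by
  obtain ⟨r, hr⟩ := CharP.exists K
  haveI := hr
  haveI : Fact r.Prime := ⟨CharP.char_is_prime K r⟩
  obtain ⟨M, rfl⟩ := QuotientGroup.mk'_surjective (Subgroup.center SL(2, K)) x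
  by_cases hM : Cfsg.Lib.GLTwo.NonScalar (M : Matrix (Fin 2) (Fin 2) K)
  swap
  · obtain ⟨c, rfl⟩ := Cfsg.Lib.GLTwo.eq_upper_of_scalar hM
    refine ⟨1, ?_⟩
    rw [pr_upper, mul_zero, Two.U_zero]
    simp
  by_cases ht : (M : Matrix (Fin 2) (Fin 2) K).trace ^ 2 = 4
  · obtain ⟨c, hc1, hc⟩ : ∃ c : K, c * c = 1 ∧ (M : Matrix (Fin 2) (Fin 2) K).trace = c + c := by
      refine ⟨(M : Matrix (Fin 2) (Fin 2) K).trace / 2, ?_, by field_simp; ring⟩
      field_simp
      linear_combination ht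
    obtain ⟨a, -, hconj⟩ := Cfsg.Lib.GLTwo.exists_upper hM ⟨c, hc1⟩ hc
    obtain ⟨k, hk⟩ := isConj_iff.1 hconj
    have hM' : Two.pr M = (Two.pr k)⁻¹ * Two.U (c * a) * Two.pr k := by
      rw [← pr_upper ⟨c, hc1⟩ a, ← hk, map_mul, map_mul, map_inv]; group
    have hs0 : s ≠ 0 := fun e => by rw [e, mul_zero] at hs; exact one_ne_zero (neg_eq_zero.1 hs.symm)
    refine ⟨(Two.pr k)⁻¹ * Two.D (Units.mk0 s hs0) * Two.pr k, ?_⟩
    show _ * Two.pr M * _ = (Two.pr M)⁻¹
    rw [hM']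
    simp only [_root_.mul_inv_rev, inv_inv]
    rw [← Two.U_neg]
    have hD := Two.D_conj_U (Units.mk0 s hs0) (c * a)
    rw [Units.val_mk0, hs, neg_one_mul] at hD
    rw [← hD]
    group
  · obtain ⟨k, hk⟩ := Cfsg.Lib.Classical.QuatElusive.conj_of_trace (Nat.odd_iff.2
      (FiniteField.odd_card_of_char_ne_two fun e => h2 (by
        haveI : CharP K 2 := ringChar.of_eq e
        exact_mod_cast CharP.cast_eq_zero K 2))) ht M M⁻¹ rfl (trace_inv M)
    exact ⟨Two.pr k, by rw [← map_inv, ← map_mul, ← map_mul, hk, map_inv]⟩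

/-- The orders in the group over seven elements. -/
theorem psl_seven_orders (hK : Fintype.card K = 7) (x : P2) : x ^ 3 = 1 ∨ x ^ 4 = 1 ∨ x ^ 7 = 1 := by
  haveI : CharP K 7 := by
    obtain ⟨r, hr⟩ := CharP.exists K
    obtain ⟨n, hrp, hn⟩ := FiniteField.card K r
    have : r ∣ 7 := hK ▸ hn ▸ dvd_pow_self r n.pos.ne'
    rwa [← (Nat.prime_dvd_prime_iff_eq hrp (by norm_num)).1 this]
  haveI : Fact (Nat.Prime 7) := ⟨by norm_num⟩
  obtain ⟨M, rfl⟩ := QuotientGroup.mk'_surjective (Subgroup.center SL(2, K)) x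
  have hmem : ∀ {n : ℕ} {c : K}, c * c = 1 → (M : Matrix (Fin 2) (Fin 2) K) ^ n = c • 1 →
      (Two.pr M) ^ n = 1 := fun {n c} hc h => by
    rw [← map_pow]
    refine (QuotientGroup.eq_one_iff (M ^ n)).2 (Matrix.SpecialLinearGroup.mem_center_iff.2 ⟨c, ?_, ?_⟩)
    · rw [Fintype.card_fin, pow_two, hc]
    · rw [Matrix.SpecialLinearGroup.coe_pow, h, Matrix.scalar_apply, Matrix.smul_one_eq_diagonal]
  set t := (M : Matrix (Fin 2) (Fin 2) K).trace with ht
  have hd := M.2
  have hsq : (M : Matrix (Fin 2) (Fin 2) K) * M.1 = t • M.1 - 1 := by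
    rw [ht, Cfsg.Lib.MitchellThree.Block.sq_eq M.1, hd, one_smul]
  have h7 : t ^ 7 = t := by
    have := FiniteField.pow_card t
    rwa [hK] at this
  have key : t * (t * t - 1) * (t * t - 2) * (t * t - 4) = 0 := by
    have h0 : (7 : K) = 0 := by exact_mod_cast CharP.cast_eq_zero K 7
    linear_combination h7 - (t ^ 5 - 2 * t ^ 3 + t + 0) * h0 + 0
  rcases mul_eq_zero.1 key with key | h4
  rcases mul_eq_zero.1 key with key | h2'
  rcases mul_eq_zero.1 key with h0 | h1
  · refine Or.inr (Or.inl (hmem (c := 1) (mul_one 1) ?_))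
    rw [pow_succ, pow_succ, pow_two, hsq, h0, zero_smul, zero_sub, neg_one_mul, neg_mul, hsq, h0, zero_smul,
      zero_sub, neg_neg, one_smul]
  · refine Or.inl (hmem (c := -t) (by linear_combination h1) ?_)
    rw [pow_succ, pow_two, hsq, sub_mul, one_mul, smul_mul_assoc, hsq, smul_sub, smul_smul,
      show t * t = 1 by linear_combination h1, one_smul]
    module
  · refine Or.inr (Or.inl (hmem (c := -1) (by ring) ?_))
    rw [pow_succ, pow_succ, pow_two, hsq, sub_mul, one_mul, smul_mul_assoc, hsq, smul_sub, smul_smul,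
      show t * t = 2 by linear_combination h2']
    simp only [sub_mul, smul_mul_assoc, hsq, one_mul, smul_sub, smul_smul]
    module
  · obtain ⟨c, hc1, hc⟩ : ∃ c : K, c * c = 1 ∧ t = c + c := by
      have h2 : (2 : K) ≠ 0 := Two.two_ne_zero_of_odd (by rw [hK]; decide)
      refine ⟨t / 2, ?_, by field_simp; ring⟩
      field_simp
      linear_combination h4
    refine Or.inr (Or.inr (hmem (c := c ^ 7) (by rw [← mul_pow, hc1, one_pow]) ?_))
    rw [← Matrix.SpecialLinearGroup.coe_pow]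
    exact Cfsg.Lib.GLTwo.pow_char_of_trace 7 hc1 hc

/-- An element of order seven is conjugate to its square. -/
theorem psl_seven_conj (hK : Fintype.card K = 7) (x : P2) (hx : x ^ 7 = 1) :
    ∃ h : P2, h * x * h⁻¹ = x * x := by
  haveI : Fact (Nat.Prime 7) := ⟨by norm_num⟩
  rcases eq_or_ne x 1 with rfl | hx1
  · exact ⟨1, by simp⟩
  haveI : CharP K 7 := by
    obtain ⟨r, hr⟩ := CharP.exists K
    obtain ⟨n, hrp, hn⟩ := FiniteField.card K r
    have : r ∣ 7 := hK ▸ hn ▸ dvd_pow_self r n.pos.ne'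
    rwa [← (Nat.prime_dvd_prime_iff_eq hrp (by norm_num)).1 this]
  have h0 : (7 : K) = 0 := by exact_mod_cast CharP.cast_eq_zero K 7
  obtain ⟨M, rfl⟩ := QuotientGroup.mk'_surjective (Subgroup.center SL(2, K)) x
  have hM : Cfsg.Lib.GLTwo.NonScalar (M : Matrix (Fin 2) (Fin 2) K) := by
    intro hn
    obtain ⟨c, rfl⟩ := Cfsg.Lib.GLTwo.eq_upper_of_scalar (g := M) (fun h => h hn)
    exact hx1 (by rw [pr_upper, mul_zero, Two.U_zero])
  have h7 : (Two.pr M) ^ 7 = 1 := hx
  rw [← map_pow] at h7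
  obtain ⟨e, he, hMe⟩ := Matrix.SpecialLinearGroup.mem_center_iff.1 ((QuotientGroup.eq_one_iff (M ^ 7)).1 h7)
  rw [Fintype.card_fin, pow_two] at he
  have he7 : e ^ 7 = e := by
    rw [show (7 : ℕ) = 2 * 3 + 1 by norm_num, pow_succ, pow_mul, pow_two, he, one_pow, one_mul]
  have ht := Cfsg.Lib.GLTwo.trace_of_pow_char 7 he7 (g := M)
    (by rw [← hMe, Matrix.scalar_apply, Matrix.smul_one_eq_diagonal])
  obtain ⟨a, -, hconj⟩ := Cfsg.Lib.GLTwo.exists_upper hM ⟨e, he⟩ ht
  obtain ⟨k, hk⟩ := isConj_iff.1 hconj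
  have hM' : Two.pr M = (Two.pr k)⁻¹ * Two.U (e * a) * Two.pr k := by
    rw [← pr_upper ⟨e, he⟩ a, ← hk, map_mul, map_mul, map_inv]; group
  have h3 : (3 : K) ≠ 0 := fun e3 => one_ne_zero (α := K) (by linear_combination h0 - 2 * e3)
  refine ⟨(Two.pr k)⁻¹ * Two.D (Units.mk0 3 h3) * Two.pr k, ?_⟩
  show _ * Two.pr M * _ = Two.pr M * Two.pr M
  have hD := Two.D_conj_U (Units.mk0 3 h3) (e * a)
  rw [Units.val_mk0, show (3 : K) * 3 * (e * a) = e * a + e * a by linear_combination (e * a) * h0, Two.U_add] at hD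
  rw [hM']
  calc _ = (Two.pr k)⁻¹ * (Two.D (Units.mk0 3 h3) * Two.U (e * a) * (Two.D (Units.mk0 3 h3))⁻¹) * Two.pr k := by
        group
    _ = _ := by rw [hD]; group

/-- The Sylow 3-subgroups are cyclic away from characteristic three. -/
theorem psl_sylow_three_cyclic (h3 : (3 : K) ≠ 0) [Fact (Nat.Prime 3)] (S : Sylow 3 P2) :
    IsCyclic (S : Subgroup P2) := by
  obtain ⟨p, hp⟩ := CharP.exists K
  haveI := hp
  haveI : Fact p.Prime := ⟨CharP.char_is_prime K p⟩
  obtain ⟨R, hR⟩ := (Sylow.mapSurjective_surjective (QuotientGroup.mk'_surjective (Subgroup.center SL(2, K))) 3) S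
  haveI := Cfsg.Agent.S0262.result p 3 (by norm_num) (fun e => h3 (by subst e; exact_mod_cast CharP.cast_eq_zero K 3)) R
  rw [← hR, Sylow.coe_mapSurjective]
  exact isCyclic_of_surjective _ ((Two.pr (K := K)).subgroupMap_surjective (R : Subgroup SL(2, K)))

end psl

section alt

theorem lists_six : ∀ s ∈ ({2, 2, 2, 3, 3, 4, 5, 6} : Multiset ℕ).powerset, s.sum ≤ 6 →
    (s.sum + Multiset.card s) % 2 = 0 → s.lcm ∣ 3 ∨ s.lcm ∣ 4 ∨ s.lcm ∣ 5 := by decide +kernel

theorem lists_seven : ∀ s ∈ ({2, 2, 2, 3, 3, 4, 5, 6, 7} : Multiset ℕ).powerset, s.sum ≤ 7 →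
    (s.sum + Multiset.card s) % 2 = 0 → s.lcm ∣ 4 ∨ s.lcm ∣ 5 ∨ s.lcm ∣ 6 ∨ s.lcm ∣ 7 := by decide +kernel

theorem cycleType_data {n : ℕ} (g : alternatingGroup (Fin n)) :
    g.1.cycleType.sum ≤ n ∧ (g.1.cycleType.sum + Multiset.card g.1.cycleType) % 2 = 0 ∧
      orderOf g = g.1.cycleType.lcm ∧
      ∀ k, g.1.cycleType.count k * k ≤ n ∧ (k < 2 → g.1.cycleType.count k = 0) := by
  have hsum : g.1.cycleType.sum ≤ n := by
    rw [Perm.sum_cycleType]
    exact (Finset.card_le_univ _).trans (Fintype.card_fin n).le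
  refine ⟨hsum, ?_, ?_, fun k => ⟨?_, fun hk => Multiset.count_eq_zero.2 fun h =>
    absurd (Perm.two_le_of_mem_cycleType h) (by omega)⟩⟩
  · have h := Perm.mem_alternatingGroup.1 g.2
    rw [Perm.sign_of_cycleType] at h
    rcases Nat.even_or_odd (g.1.cycleType.sum + Multiset.card g.1.cycleType) with he | ho
    · exact Nat.even_iff.1 he
    · rw [ho.neg_one_pow] at h
      exact absurd h (by decide)
  · rw [Perm.lcm_cycleType]; exact (Subgroup.orderOf_coe g).symm
  · have h1 : Multiset.replicate (g.1.cycleType.count k) k ≤ g.1.cycleType :=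
      Multiset.le_count_iff_replicate_le.1 le_rfl
    obtain ⟨u, hu⟩ := Multiset.le_iff_exists_add.1 h1
    have h2 := congrArg Multiset.sum hu
    rw [Multiset.sum_add, Multiset.sum_replicate, smul_eq_mul] at h2
    omega

theorem alt_six_orders (g : alternatingGroup (Fin 6)) : g ^ 3 = 1 ∨ g ^ 4 = 1 ∨ g ^ 5 = 1 := by
  obtain ⟨h1, h2, h3, h4⟩ := cycleType_data g
  have hmem : g.1.cycleType ∈ ({2, 2, 2, 3, 3, 4, 5, 6} : Multiset ℕ).powerset := by
    rw [Multiset.mem_powerset, Multiset.le_iff_count]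
    intro k
    obtain ⟨hk, hk2⟩ := h4 k
    rcases lt_or_ge k 2 with h | h
    · rw [hk2 h]; exact Nat.zero_le _
    rcases lt_or_ge 6 k with h' | h'
    · have : g.1.cycleType.count k = 0 := by nlinarith
      rw [this]; exact Nat.zero_le _
    interval_cases k <;> simp <;> omega
  rcases lists_six _ hmem h1 h2 with h | h | h
  · exact Or.inl (orderOf_dvd_iff_pow_eq_one.1 (h3 ▸ h))
  · exact Or.inr (Or.inl (orderOf_dvd_iff_pow_eq_one.1 (h3 ▸ h)))
  · exact Or.inr (Or.inr (orderOf_dvd_iff_pow_eq_one.1 (h3 ▸ h)))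

theorem alt_seven_orders (g : alternatingGroup (Fin 7)) : g ^ 4 = 1 ∨ g ^ 5 = 1 ∨ g ^ 6 = 1 ∨ g ^ 7 = 1 := by
  obtain ⟨h1, h2, h3, h4⟩ := cycleType_data g
  have hmem : g.1.cycleType ∈ ({2, 2, 2, 3, 3, 4, 5, 6, 7} : Multiset ℕ).powerset := by
    rw [Multiset.mem_powerset, Multiset.le_iff_count]
    intro k
    obtain ⟨hk, hk2⟩ := h4 k
    rcases lt_or_ge k 2 with h | h
    · rw [hk2 h]; exact Nat.zero_le _
    rcases lt_or_ge 7 k with h' | h'
    · have : g.1.cycleType.count k = 0 := by nlinarith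
      rw [this]; exact Nat.zero_le _
    interval_cases k <;> simp <;> omega
  rcases lists_seven _ hmem h1 h2 with h | h | h | h
  · exact Or.inl (orderOf_dvd_iff_pow_eq_one.1 (h3 ▸ h))
  · exact Or.inr (Or.inl (orderOf_dvd_iff_pow_eq_one.1 (h3 ▸ h)))
  · exact Or.inr (Or.inr (Or.inl (orderOf_dvd_iff_pow_eq_one.1 (h3 ▸ h))))
  · exact Or.inr (Or.inr (Or.inr (orderOf_dvd_iff_pow_eq_one.1 (h3 ▸ h))))

/-- An element of order dividing four of an alternating group is real. -/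
theorem alt_real_four {n : ℕ} (g : alternatingGroup (Fin n)) (hg : g ^ 4 = 1) :
    ∃ h : alternatingGroup (Fin n), h * g * h⁻¹ = g⁻¹ := by
  classical
  rcases eq_or_ne g 1 with rfl | h1
  · exact ⟨1, by simp⟩
  obtain ⟨τ, hτ⟩ := isConj_iff.1 ((Perm.isConj_iff_cycleType_eq).2 (Perm.cycleType_inv g.1).symm :
    IsConj g.1 g.1⁻¹)
  have key : ∀ σ : Perm (Fin n), Perm.sign σ = 1 → σ * g.1 * σ⁻¹ = g.1⁻¹ →
      ∃ h : alternatingGroup (Fin n), h * g * h⁻¹ = g⁻¹ := fun σ hσ hc =>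
    ⟨⟨σ, Perm.mem_alternatingGroup.2 hσ⟩, Subtype.ext hc⟩
  rcases Int.units_eq_one_or (Perm.sign τ) with hs | hs
  · exact key τ hs hτ
  obtain ⟨c, hc⟩ : ∃ c, c ∈ g.1.cycleFactorsFinset := by
    refine Finset.nonempty_iff_ne_empty.2 fun e => h1 (Subtype.ext ?_)
    exact Perm.cycleFactorsFinset_eq_empty_iff.1 e
  have hcyc := (Perm.mem_cycleFactorsFinset_iff.1 hc).1
  have hcomm : c * g.1 = g.1 * c := (Perm.self_mem_cycle_factors_commute hc).eq
  have hk : c.support.card ∣ 4 := by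
    have h2 : c.support.card ∈ g.1.cycleType := by
      rw [Perm.cycleType_def]
      exact Multiset.mem_map.2 ⟨c, hc, rfl⟩
    refine (Multiset.dvd_lcm h2).trans ?_
    rw [Perm.lcm_cycleType, Subgroup.orderOf_coe]
    exact orderOf_dvd_of_pow_eq_one hg
  have hsign : Perm.sign c = -1 := by
    rw [hcyc.sign]
    have h2 := hcyc.two_le_card_support
    have h3 : Even c.support.card := by
      have h4 := Nat.le_of_dvd (by norm_num) hk
      interval_cases h5 : c.support.card <;> first | decide | (exact absurd hk (by decide))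
    rw [h3.neg_one_pow]
  refine key (τ * c) (by rw [map_mul, hs, hsign]; decide) ?_
  rw [_root_.mul_inv_rev, ← hτ]
  calc τ * c * g.1 * (c⁻¹ * τ⁻¹) = τ * (c * g.1) * c⁻¹ * τ⁻¹ := by group
    _ = τ * g.1 * τ⁻¹ := by rw [hcomm]; group

/-- An element of order seven of the alternating group of degree seven is conjugate to its square. -/
theorem alt_seven_conj (g : alternatingGroup (Fin 7)) (hg : g ^ 7 = 1) :
    ∃ h : alternatingGroup (Fin 7), h * g * h⁻¹ = g * g := by
  haveI : Fact (Nat.Prime 7) := ⟨by norm_num⟩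
  rcases eq_or_ne g 1 with rfl | hg1
  · exact ⟨1, by simp⟩
  let c : alternatingGroup (Fin 7) := ⟨sevenCycle, Perm.mem_alternatingGroup.2 (by decide)⟩
  let k : alternatingGroup (Fin 7) :=
    ⟨⟨fun i => 2 * i, fun i => 4 * i, by decide, by decide⟩, Perm.mem_alternatingGroup.2 (by decide)⟩
  have hk : k * c * k⁻¹ = c * c := Subtype.ext (by decide)
  have hc7 : c ^ 7 = 1 := Subtype.ext (show sevenCycle ^ 7 = 1 by decide)
  have hc : orderOf c = 7 := orderOf_eq_prime hc7 (fun e => absurd (congrArg Subtype.val e)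
    (show sevenCycle ≠ 1 by decide))
  have hcard : Nat.card (alternatingGroup (Fin 7)) = 2520 := by
    rw [nat_card_alternatingGroup, Nat.card_eq_fintype_card, Fintype.card_fin]; rfl
  have hS : ∀ z : alternatingGroup (Fin 7), orderOf z = 7 → ∀ S : Sylow 7 (alternatingGroup (Fin 7)),
      Subgroup.zpowers z ≤ (S : Subgroup _) → Subgroup.zpowers z = (S : Subgroup _) := fun z hz S hle => by
    refine Subgroup.eq_of_le_of_card_ge hle (le_of_eq ?_)
    rw [Sylow.card_eq_multiplicity, hcard, Nat.card_zpowers, hz,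
      show (2520 : ℕ) = 7 ^ 1 * 360 by norm_num, Nat.factorization_mul (by norm_num) (by norm_num),
      Nat.Prime.factorization_pow (by norm_num : Nat.Prime 7)]
    simp [Nat.factorization_eq_zero_of_not_dvd (show ¬ 7 ∣ 360 by norm_num)]
  obtain ⟨S₁, hS₁⟩ := (IsPGroup.of_card (p := 7) (n := 1) (by rw [pow_one, Nat.card_zpowers, hc]) :
    IsPGroup 7 (Subgroup.zpowers c)).exists_le_sylow
  obtain ⟨S₂, hS₂⟩ := (IsPGroup.of_card (p := 7) (n := 1) (by
    rw [pow_one, Nat.card_zpowers, orderOf_eq_prime hg hg1]) : IsPGroup 7 (Subgroup.zpowers g)).exists_le_sylow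
  obtain ⟨a, ha⟩ := MulAction.exists_smul_eq (alternatingGroup (Fin 7)) S₁ S₂
  have hgm : g ∈ (S₂ : Subgroup _) := hS₂ (Subgroup.mem_zpowers g)
  rw [← ha, Sylow.coe_subgroup_smul, ← hS c hc S₁ hS₁] at hgm
  obtain ⟨d, hd, hdg⟩ := hgm
  obtain ⟨j, rfl⟩ := Subgroup.mem_zpowers_iff.1 hd
  have hdg' : g = a * c ^ j * a⁻¹ := hdg.symm
  refine ⟨a * k * a⁻¹, ?_⟩
  rw [hdg']
  calc _ = a * (k * c * k⁻¹) ^ j * a⁻¹ := by rw [conj_zpow]; group
    _ = _ := by rw [hk, (Commute.refl c).mul_zpow]; group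

end alt

end Cfsg.Lib.MitchellThree.Residual
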