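import Cfsg.Agent.MitchellThree.Residual.Values
import Cfsg.Agent.Classical.Unitary.Matrix
import Cfsg.Agent.Classical.Misc.PSLSeven
import Cfsg.Agent.Classical.Misc.SmallPSL

/-!
The quotients, fields and congruences of the residual cores in the linear and in the unitary case.
-/

set_option autoImplicit false
set_option linter.unusedSectionVars false
set_option linter.style.haveILetI false

namespace Cfsg.Lib.MitchellThree.Residual

open Matrix Subgroup Cfsg.Geo
open scoped MatrixGroups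

universe u

variable {F : Type u} [Field F] [Finite F]

local notation "MM" => Matrix (Fin 3) (Fin 3) F
local notation "GG" => GL (Fin 3) F

/-- Traces of inverses of isometries of the standard unitary form. -/
theorem tr_inv_GU [Fintype F] {q : ℕ} (hF : Fintype.card F = q ^ 2) {g : GG} (hg : g ∈ Cfsg.GU 3 F q) :
    tr g⁻¹ = tr g ^ q := by
  let σ := Cfsg.Lib.Classical.powConj hF
  have hσ : ∀ x, σ x = x ^ q := Cfsg.Lib.Classical.powConj_apply hF
  have h1 : (g : MM)ᵀ * (g : MM).map σ = 1 := by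
    ext i j
    have h := hg (Pi.single i 1) (Pi.single j 1)
    simp only [Cfsg.hermForm, Units.coeHom_apply, Matrix.mulVec_single_one] at h
    rw [Matrix.mul_apply]
    simp only [Matrix.transpose_apply, Matrix.map_apply, hσ]
    refine h.trans ?_
    rw [Finset.sum_eq_single i (fun b _ hb => by rw [Pi.single_eq_of_ne hb, zero_mul]) (by simp),
      Pi.single_eq_same, one_mul, Matrix.one_apply]
    by_cases hij : i = j
    · subst hij
      rw [Pi.single_eq_same, one_pow, if_pos rfl]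
    · have hq : q ≠ 0 := fun e => by rw [e] at hF; simp at hF
      rw [Pi.single_eq_of_ne hij, zero_pow hq, if_neg hij]
  have h2 : ((g⁻¹ : GG) : MM) = ((g : MM).map σ)ᵀ := by
    refine Units.inv_eq_of_mul_eq_one_left ?_
    have h3 := congrArg (fun M : MM => M.map σ) h1
    simp only [Matrix.map_mul, Matrix.map_map, Matrix.map_one _ (map_zero σ) (map_one σ)] at h3
    rw [← Matrix.transpose_map] at *
    rwa [show (σ ∘ σ : F → F) = id from funext (Cfsg.Lib.Classical.powConj_isConj hF).invol, Matrix.map_id] at h3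
  show ((g⁻¹ : GG) : MM).trace = _
  rw [h2, Matrix.trace_transpose, ← map_trace_eq (τ := σ), hσ]

variable {P : Subgroup (GL (Fin 3) F)}

theorem Core.not_real_of_no_quad (C : Core P)
    (hQ : ¬ ∃ Q : (Fin 3 → F) → F, IsNondegenerateQuadraticForm Q ∧ FixesQuadForm (matrixSet P) Q) : ¬ RealTr P :=
  fun h => hQ (exists_quadratic C.absIrred fun g hg => h g hg).2

theorem exists_quot_three {K : Type} [Field K] [Fintype K] (hK : Fintype.card K = 7)
    (h : Nonempty (Quot3 P ≃* Matrix.ProjectiveSpecialLinearGroup (Fin 2) K)) :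
    Nonempty (Quot3 P ≃* Matrix.ProjectiveSpecialLinearGroup (Fin 3) (ZMod 2)) := by
  obtain ⟨e⟩ := h
  obtain ⟨e'⟩ := Cfsg.Lib.Classical.PSLSeven.psl_seven (K := ZMod 2) hK (by rw [ZMod.card])
  exact ⟨e.trans e'⟩

/-- The linear case. -/
theorem Core.linear_outcome (C : Core P) [Fintype F] {p : ℕ} [hp : Fact p.Prime] [CharP F p] (hT : OddTypes p P)
    (hnr : ¬ RealTr P)
    (hnu : ¬ ∃ (σ : F ≃+* F) (f : (Fin 3 → F) → (Fin 3 → F) → F), IsUnitaryForm σ f ∧ FixesForm (matrixSet P) f) :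
    (Nonempty (Quot3 P ≃* Matrix.ProjectiveSpecialLinearGroup (Fin 3) (ZMod 2)) ∧ Fintype.card F = p ∧
        (p % 7 = 1 ∨ p % 7 = 2 ∨ p % 7 = 4)) ∨
    (Nonempty (Quot3 P ≃* alternatingGroup (Fin 6)) ∧
      ((Fintype.card F = p ∧ (p % 15 = 1 ∨ p % 15 = 4)) ∨
        (Fintype.card F = p ^ 2 ∧ p ≠ 3 ∧ (p % 5 = 2 ∨ p % 5 = 3)))) := by
  have noTwist : Nat.card F = p ^ 2 → ¬ TwistTr P p := by
    intro hcard tw
    have hpow : ∀ x : F, x ^ p ^ 2 = x := pow_eq_self_of_card hcard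
    let σ : F ≃+* F := RingEquiv.ofBijective (frobenius F p) (Finite.injective_iff_bijective.1 (frobenius F p).injective)
    have hσ : ∀ x, σ x = x ^ p := fun x => frobenius_def p x
    refine hnu ⟨σ, exists_unitary C.absIrred σ ?_ (fun a => by rw [hσ, hσ, ← pow_mul, ← pow_two, hpow])
      fun g hg => by rw [hσ]; exact tw g hg⟩
    intro e
    refine hnr fun g hg => (tw g hg).trans ?_
    rw [← hσ, e]
    rfl
  rcases hT with ⟨K, _, _, ⟨b, hb⟩, ⟨e⟩⟩ | ⟨K, _, _, h5, ⟨e⟩⟩ | ⟨K, iK, iF, h7, he⟩ | h6 | ⟨hp5, ⟨e⟩⟩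
  · exact absurd (C.real_of_psl_char hb e) hnr
  · exact absurd (C.real_of_five h5 e) hnr
  · obtain ⟨e⟩ := he
    have hp7 : p ≠ 7 := fun hpe => hnr (C.real_of_psl_char (b := 1) (by rw [h7, pow_one, hpe]) e)
    rcases C.seven_traces h7 e hp7 hnr with ⟨h1, h2⟩ | ⟨h1, -, h3⟩
    · exact Or.inl ⟨exists_quot_three h7 ⟨e⟩, by rw [← Nat.card_eq_fintype_card]; exact h1, h2⟩
    · exact absurd h3 (noTwist h1)
  · obtain ⟨e⟩ := h6
    obtain ⟨hp3, h | ⟨h1, h2, -⟩ | ⟨h1, -, h3⟩⟩ := C.six_traces (p := p) e hnr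
    · exact Or.inr ⟨⟨e⟩, Or.inl ⟨by rw [← Nat.card_eq_fintype_card]; exact h.1, h.2⟩⟩
    · exact Or.inr ⟨⟨e⟩, Or.inr ⟨by rw [← Nat.card_eq_fintype_card]; exact h1, hp3, h2⟩⟩
    · exact absurd h3 (noTwist h1)
  · subst hp5
    obtain ⟨h1, h2⟩ := C.alt_seven_traces e hnr
    exact absurd h2 (noTwist h1)

/-- The unitary case. -/
theorem Core.unitary_outcome (C : Core P) [Fintype F] {p : ℕ} [hp : Fact p.Prime] [CharP F p] (hT : OddTypes p P)
    {q : ℕ} (hF : Fintype.card F = q ^ 2) (hP : P ≤ Cfsg.GU 3 F q) (hnr : ¬ RealTr P) :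
    q = p ∧ ((Nonempty (Quot3 P ≃* Matrix.ProjectiveSpecialLinearGroup (Fin 3) (ZMod 2)) ∧
        (q % 7 = 3 ∨ q % 7 = 5 ∨ q % 7 = 6)) ∨
      (Nonempty (Quot3 P ≃* alternatingGroup (Fin 6)) ∧ (q % 15 = 11 ∨ q % 15 = 14 ∨ q = 5)) ∨
      (Nonempty (Quot3 P ≃* alternatingGroup (Fin 7)) ∧ q = 5)) := by
  have noPrime : Nat.card F ≠ p := fun h => by
    rw [Nat.card_eq_fintype_card, hF] at h
    exact Nat.Prime.not_prime_pow le_rfl (h ▸ hp.out)
  have hqp : Nat.card F = p ^ 2 → q = p := fun h => by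
    rw [Nat.card_eq_fintype_card, hF] at h
    exact (Nat.pow_left_injective two_ne_zero) h
  rcases hT with ⟨K, _, _, ⟨b, hb⟩, ⟨e⟩⟩ | ⟨K, _, _, h5, ⟨e⟩⟩ | ⟨K, iK, iF, h7, he⟩ | h6 | ⟨hp5, ⟨e⟩⟩
  · exact absurd (C.real_of_psl_char hb e) hnr
  · exact absurd (C.real_of_five h5 e) hnr
  · obtain ⟨e⟩ := he
    have hp7 : p ≠ 7 := fun hpe => hnr (C.real_of_psl_char (b := 1) (by rw [h7, pow_one, hpe]) e)
    rcases C.seven_traces h7 e hp7 hnr with ⟨h1, -⟩ | ⟨h1, h2, -⟩
    · exact absurd h1 noPrime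
    · obtain rfl := hqp h1
      exact ⟨rfl, Or.inl ⟨exists_quot_three h7 ⟨e⟩, h2⟩⟩
  · obtain ⟨e⟩ := h6
    obtain ⟨-, h | ⟨h1, -, g, hg, hr, hne⟩ | ⟨h1, h2, -⟩⟩ := C.six_traces (p := p) e hnr
    · exact absurd h.1 noPrime
    · obtain rfl := hqp h1
      exact absurd ((tr_inv_GU hF (hP hg)).symm.trans hr) hne
    · obtain rfl := hqp h1
      exact ⟨rfl, Or.inr (Or.inl ⟨⟨e⟩, h2⟩)⟩
  · subst hp5
    obtain ⟨h1, -⟩ := C.alt_seven_traces e hnr
    exact ⟨hqp h1, Or.inr (Or.inr ⟨⟨e⟩, hqp h1⟩)⟩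

/-- Over the field with two elements the quotient of order 168 fills the whole group. -/
theorem Core.eq_top_two [Fintype F] (hF : Fintype.card F = 2)
    (h : Nonempty (Quot3 P ≃* Matrix.ProjectiveSpecialLinearGroup (Fin 3) (ZMod 2))) : P = ⊤ := by
  classical
  obtain ⟨e⟩ := h
  let c : ZMod 2 ≃+* F := FiniteField.ringEquivOfCardEq (by rw [hF, ZMod.card])
  haveI : Fact (Nat.Prime 7) := ⟨by norm_num⟩
  let K := GaloisField 7 1
  haveI : Fintype K := Fintype.ofFinite K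
  have hK : Fintype.card K = 7 := by rw [← Nat.card_eq_fintype_card, GaloisField.card 7 1 one_ne_zero, pow_one]
  obtain ⟨e'⟩ := Cfsg.Lib.Classical.PSLSeven.psl_seven (K := ZMod 2) hK (by rw [ZMod.card])
  have h168 : 168 ≤ Nat.card P := by
    have h7 := Cfsg.Lib.Classical.SmallPSL.card_psl hK
    have hle : Nat.card (Quot3 P) ≤ Nat.card P := Nat.card_le_card_of_surjective _ (QuotientGroup.mk'_surjective _)
    rw [Nat.card_congr (e.trans e'.symm).toEquiv] at hle
    norm_num [-Nat.card_eq_fintype_card] at h7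
    omega
  refine Subgroup.eq_top_of_card_eq P (le_antisymm (Subgroup.card_le_card_group P) ?_)
  rw [Matrix.card_GL_field, hF, Fin.prod_univ_three]
  norm_num [-Nat.card_eq_fintype_card]
  omega

end Cfsg.Lib.MitchellThree.Residual
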