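import Cfsg.Agent.MitchellThree.Residual.Span
import Cfsg.Agent.Classical.Aschbacher.Descent
import Cfsg.Agent.Classical.Aschbacher.FormCases

/-!
Trace criteria for an absolutely irreducible group: realisability over a subfield, fixed unitary forms, fixed
quadratic forms.
-/

set_option autoImplicit false
set_option linter.unusedSectionVars false
set_option linter.style.haveILetI false

namespace Cfsg.Lib.MitchellThree.Residual

open Matrix Cfsg.Geo
open scoped MatrixGroups
open Cfsg.Lib.Classical.PrimeDim (mem_matrixSet forall_matrixSet gl_det_ne_zero powField mem_powField card_powField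
  exists_prime_index_subfield exists_char_card)
open Cfsg.Lib.Classical.Aschbacher (matForm matQuad realisable_of_twist matForm_unitary matForm_mulVec
  matQuad_nondegenerate matForm_transpose matForm_bilinear matForm_nondegenerate)

universe u

variable {F : Type u} [Field F] [Finite F] {ι : Type} [Fintype ι] [DecidableEq ι]

/-- The representation of a group. -/
def natRep (R : Subgroup (GL ι F)) : R →* Matrix ι ι F := (Units.coeHom _).comp R.subtype

theorem natRep_span [Nonempty ι] {R : Subgroup (GL ι F)} (hai : ActsAbsolutelyIrreducibly (matrixSet R))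
    (X : Matrix ι ι F) : X ∈ Submodule.span F (Set.range (natRep R)) := by
  have h : Set.range (natRep R) = matrixSet R := by
    ext M
    exact ⟨fun ⟨g, hg⟩ => ⟨g, g.2, hg⟩, fun ⟨g, hg, hM⟩ => ⟨⟨g, hg⟩, hM⟩⟩
  rw [h]
  exact span_eq_top hai X

theorem map_trace_eq {τ : F →+* F} {M : Matrix ι ι F} : τ M.trace = (M.map τ).trace := by
  simp [Matrix.trace, map_sum]

/-- Traces in a subfield give realisability. -/
theorem eq_top_of_trace [Nonempty ι] {R : Subgroup (GL ι F)} (hai : ActsAbsolutelyIrreducibly (matrixSet R))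
    (hno : ∀ F₀ : Subfield F, F₀ ≠ ⊤ → ¬ RealisableOver F₀ (matrixSet R)) (F₀ : Subfield F)
    (h : ∀ g ∈ R, (g : Matrix ι ι F).trace ∈ F₀) : F₀ = ⊤ := by
  classical
  by_contra hne
  haveI : Fintype F := Fintype.ofFinite F
  obtain ⟨F₁, r, hle, hr, hcard⟩ := exists_prime_index_subfield hne
  obtain ⟨p, f, hp, hchar, hf0, hf⟩ := exists_char_card F
  haveI := Fact.mk hp
  haveI : Fintype F₁ := Fintype.ofFinite F₁
  obtain ⟨e, -, he⟩ := (Nat.dvd_prime_pow hp).mp
    (hf ▸ hcard ▸ dvd_pow_self (Nat.card F₁) hr.ne_zero : Nat.card F₁ ∣ p ^ f)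
  have he0 : 0 < e := Nat.pos_of_ne_zero fun e0 => by
    rw [e0, pow_zero] at he
    exact (Finite.one_lt_card (α := F₁)).ne' he
  have hFcard : Fintype.card F = p ^ (e * r) := by rw [← Nat.card_eq_fintype_card, hcard, he, pow_mul]
  let τ : F →+* F := iterateFrobenius F p e
  have hτ : ∀ a, τ a = a ^ p ^ e := fun a => iterateFrobenius_def p e a
  have hfix : ∀ a ∈ F₁, τ a = a := fun a ha => by
    have := congrArg (fun y : F₁ => (y : F)) (FiniteField.pow_card (⟨a, ha⟩ : F₁))
    rw [hτ, ← he, Nat.card_eq_fintype_card]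
    simpa using this
  let ρ' : R →* Matrix ι ι F := (τ.mapMatrix : Matrix ι ι F →+* Matrix ι ι F).toMonoidHom.comp (natRep R)
  have hspan : ∀ X, X ∈ Submodule.span F (Set.range ρ') := by
    intro X
    obtain ⟨τ', hτ'⟩ : ∃ g : F → F, Function.RightInverse g τ :=
      (Finite.injective_iff_surjective.1 τ.injective).hasRightInverse
    have key : ∀ Y ∈ Submodule.span F (Set.range (natRep R)), Y.map τ ∈ Submodule.span F (Set.range ρ') := by
      intro Y hY
      induction hY using Submodule.span_induction with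
      | mem x hx => obtain ⟨g, rfl⟩ := hx; exact Submodule.subset_span ⟨g, rfl⟩
      | zero => rw [Matrix.map_zero _ (map_zero τ)]; exact zero_mem _
      | add a b _ _ ha hb => rw [Matrix.map_add _ (map_add τ)]; exact add_mem ha hb
      | smul c a _ ha =>
        rw [Matrix.map_smul' _ c a (map_mul τ)]
        exact Submodule.smul_mem _ _ ha
    have := key (X.map τ') (natRep_span hai _)
    rwa [Matrix.map_map, show (τ ∘ τ') = id from funext hτ', Matrix.map_id] at this
  obtain ⟨X, hX, hint⟩ := exists_intertwiner (natRep R) ρ' (fun g => by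
    show (((g : GL ι F) : Matrix ι ι F).map τ).trace = ((g : GL ι F) : Matrix ι ι F).trace
    rw [← map_trace_eq, hfix _ (hle (h _ g.2))]) (natRep_span hai) hspan
  refine hno (powField F p e) (fun htop => ?_) (realisable_of_twist he0 hr.pos hFcard hai
    (Matrix.GeneralLinearGroup.mkOfDetNeZero X hX) fun g hg => ?_)
  · have h1 := card_powField (F := F) (p := p) (f := e * r) he0 (by rw [Nat.card_eq_fintype_card, hFcard])
      (dvd_mul_right e r)
    rw [htop, Nat.card_congr Subfield.topEquiv.toEquiv, Nat.card_eq_fintype_card, hFcard] at h1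
    have h2 := Nat.pow_right_injective hp.two_le h1
    have := hr.two_le
    nlinarith
  · rw [show (g : Matrix ι ι F).map (fun a => a ^ p ^ e) = (g : Matrix ι ι F).map τ from
      Matrix.ext fun i j => (hτ _).symm]
    exact hint ⟨g, hg⟩

variable {R : Subgroup (GL ι F)}

/-- Semilinear duality by traces. -/
theorem exists_invariant [Nonempty ι] (hai : ActsAbsolutelyIrreducibly (matrixSet R)) (σ : F ≃+* F)
    (hinv : ∀ a, σ (σ a) = a)
    (h : ∀ g ∈ R, ((g⁻¹ : GL ι F) : Matrix ι ι F).trace = σ (g : Matrix ι ι F).trace) :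
    ∃ (X : Matrix ι ι F) (c : F), X.det ≠ 0 ∧ c * σ c = 1 ∧ Xᵀ.map σ = c • X ∧
      ∀ g ∈ R, (g : Matrix ι ι F)ᵀ * X * (g : Matrix ι ι F).map σ = X := by
  classical
  let ρ' : R →* Matrix ι ι F :=
    { toFun := fun g => ((((g : GL ι F)⁻¹ : GL ι F) : Matrix ι ι F).map σ)ᵀ
      map_one' := by simp [Matrix.map_one]
      map_mul' := fun a b => by
        simp only [Subgroup.coe_mul, _root_.mul_inv_rev, Units.val_mul]
        rw [← RingEquiv.coe_toRingHom, Matrix.map_mul, Matrix.transpose_mul] }
  have hspan : ∀ X, X ∈ Submodule.span F (Set.range ρ') := by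
    intro X
    have key : ∀ Y ∈ Submodule.span F (Set.range (natRep R)), (Y.map σ)ᵀ ∈ Submodule.span F (Set.range ρ') := by
      intro Y hY
      induction hY using Submodule.span_induction with
      | mem x hx =>
        obtain ⟨g, rfl⟩ := hx
        refine Submodule.subset_span ⟨g⁻¹, ?_⟩
        show (((((g⁻¹ : R) : GL ι F)⁻¹ : GL ι F) : Matrix ι ι F).map σ)ᵀ = _
        rw [Subgroup.coe_inv, inv_inv]
        rfl
      | zero => rw [Matrix.map_zero _ σ.map_zero, Matrix.transpose_zero]; exact zero_mem _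
      | add a b _ _ ha hb => rw [Matrix.map_add _ σ.map_add, Matrix.transpose_add]; exact add_mem ha hb
      | smul c a _ ha =>
        rw [Matrix.map_smul' _ c a σ.map_mul, Matrix.transpose_smul]
        exact Submodule.smul_mem _ _ ha
    have := key (Xᵀ.map σ) (natRep_span hai _)
    rwa [Matrix.map_map, show (σ ∘ σ : F → F) = id from funext hinv, Matrix.map_id, Matrix.transpose_transpose] at this
  obtain ⟨Y, hY, hint⟩ := exists_intertwiner (natRep R) ρ' (fun g => by
    show ((((g : GL ι F)⁻¹ : GL ι F) : Matrix ι ι F).map σ)ᵀ.trace = ((g : GL ι F) : Matrix ι ι F).trace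
    rw [Matrix.trace_transpose, ← RingEquiv.coe_toRingHom,
      ← map_trace_eq (τ := (σ : F →+* F)), RingEquiv.coe_toRingHom, h _ g.2, hinv])
    (natRep_span hai) hspan
  set X := Yᵀ with hXdef
  have hX : X.det ≠ 0 := by rwa [hXdef, Matrix.det_transpose]
  have hinvX : ∀ g ∈ R, (g : Matrix ι ι F)ᵀ * X * (g : Matrix ι ι F).map σ = X := by
    intro g hg
    have h1 := hint ⟨g, hg⟩
    change (((g⁻¹ : GL ι F) : Matrix ι ι F).map σ)ᵀ * Y = Y * (g : Matrix ι ι F) at h1
    have h2 : ((g : Matrix ι ι F).map σ)ᵀ * (((g⁻¹ : GL ι F) : Matrix ι ι F).map σ)ᵀ = 1 := by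
      rw [← Matrix.transpose_mul, ← RingEquiv.coe_toRingHom, ← Matrix.map_mul, ← Units.val_mul, inv_mul_cancel,
        Units.val_one, Matrix.map_one _ (map_zero _) (map_one _), Matrix.transpose_one]
    have h3 : ((g : Matrix ι ι F).map σ)ᵀ * Y * (g : Matrix ι ι F) = Y := by
      rw [Matrix.mul_assoc, ← h1, ← Matrix.mul_assoc, h2, Matrix.one_mul]
    have h4 := congrArg Matrix.transpose h3
    rw [Matrix.transpose_mul, Matrix.transpose_mul, Matrix.transpose_transpose, ← Matrix.mul_assoc] at h4
    exact h4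
  set X' := Xᵀ.map σ with hX'
  have hinvX' : ∀ g ∈ R, (g : Matrix ι ι F)ᵀ * X' * (g : Matrix ι ι F).map σ = X' := by
    intro g hg
    have h1 : ((g : Matrix ι ι F)ᵀ * X * (g : Matrix ι ι F).map σ)ᵀ.map (σ : F →+* F) = Xᵀ.map (σ : F →+* F) := by
      rw [hinvX g hg]
    rw [Matrix.transpose_mul, Matrix.transpose_mul, Matrix.transpose_transpose, Matrix.map_mul, Matrix.map_mul,
      Matrix.transpose_map, RingEquiv.coe_toRingHom, Matrix.map_map,
      show (σ ∘ σ : F → F) = id from funext hinv, Matrix.map_id, ← Matrix.mul_assoc] at h1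
    exact h1
  have hXu : IsUnit X.det := isUnit_iff_ne_zero.2 hX
  have hcomm : ∀ g ∈ R, X⁻¹ * X' * (g : Matrix ι ι F).map σ = (g : Matrix ι ι F).map σ * (X⁻¹ * X') := by
    intro g hg
    have hgu : IsUnit ((g : Matrix ι ι F)ᵀ * X) := (Matrix.isUnit_iff_isUnit_det _).2 (isUnit_iff_ne_zero.2 (by
      rw [Matrix.det_mul, Matrix.det_transpose]; exact mul_ne_zero (gl_det_ne_zero g) hX))
    apply hgu.mul_left_cancel
    calc (g : Matrix ι ι F)ᵀ * X * (X⁻¹ * X' * (g : Matrix ι ι F).map σ)
        = (g : Matrix ι ι F)ᵀ * (X * X⁻¹) * X' * (g : Matrix ι ι F).map σ := by simp only [Matrix.mul_assoc]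
      _ = X' := by rw [Matrix.mul_nonsing_inv _ hXu, Matrix.mul_one, hinvX' g hg]
      _ = X * (X⁻¹ * X') := by rw [← Matrix.mul_assoc, Matrix.mul_nonsing_inv _ hXu, Matrix.one_mul]
      _ = ((g : Matrix ι ι F)ᵀ * X * (g : Matrix ι ι F).map σ) * (X⁻¹ * X') := by rw [hinvX g hg]
      _ = _ := by simp only [Matrix.mul_assoc]
  obtain ⟨b, hb⟩ := hai.2 ((X⁻¹ * X').map σ) (forall_matrixSet.2 fun g hg => by
    have h1 := congrArg (fun M : Matrix ι ι F => M.map σ) (hcomm g hg)
    simp only [← RingEquiv.coe_toRingHom, Matrix.map_mul, Matrix.map_map,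
      show ((σ : F →+* F) ∘ (σ : F →+* F) : F → F) = id from funext hinv, Matrix.map_id] at h1 ⊢
    exact h1)
  have hc : X' = σ b • X := by
    have h1 := congrArg (fun M : Matrix ι ι F => M.map σ) hb
    simp only [Matrix.map_map, show (σ ∘ σ : F → F) = id from funext hinv, Matrix.map_id] at h1
    rw [Matrix.map_smul' _ _ _ σ.map_mul, Matrix.map_one _ σ.map_zero σ.map_one] at h1
    have h2 := congrArg (fun M => X * M) h1
    simp only [← Matrix.mul_assoc, Matrix.mul_nonsing_inv _ hXu, Matrix.one_mul, Matrix.mul_smul,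
      Matrix.mul_one] at h2
    exact h2
  refine ⟨X, σ b, hX, ?_, hc, hinvX⟩
  have h1 : X'ᵀ.map σ = X := by
    rw [hX', Matrix.transpose_map, Matrix.transpose_transpose, Matrix.map_map,
      show (σ ∘ σ : F → F) = id from funext hinv, Matrix.map_id]
  rw [hc, Matrix.transpose_smul, Matrix.map_smul' _ _ _ σ.map_mul, ← hX', hc, smul_smul, hinv] at h1
  obtain ⟨i, j, hij⟩ : ∃ i j, X i j ≠ 0 := by
    by_contra hn
    push Not at hn
    exact hX (by rw [show X = 0 from Matrix.ext hn, Matrix.det_zero])
  have h2 := congrFun (congrFun h1 i) j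
  rw [Matrix.smul_apply, smul_eq_mul, mul_eq_right₀ hij] at h2
  rw [hinv, mul_comm]
  exact h2

theorem fixesForm_of {σ : F ≃+* F} {X : Matrix ι ι F}
    (h : ∀ g ∈ R, (g : Matrix ι ι F)ᵀ * X * (g : Matrix ι ι F).map σ = X) :
    FixesForm (matrixSet R) (matForm σ X) :=
  forall_matrixSet.2 fun g hg u v => by rw [matForm_mulVec, h g hg]

/-- A unitary form from traces. -/
theorem exists_unitary [Nonempty ι] (hai : ActsAbsolutelyIrreducibly (matrixSet R)) (σ : F ≃+* F)
    (hne : σ ≠ RingEquiv.refl F) (hinv : ∀ a, σ (σ a) = a)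
    (h : ∀ g ∈ R, ((g⁻¹ : GL ι F) : Matrix ι ι F).trace = σ (g : Matrix ι ι F).trace) :
    ∃ f, IsUnitaryForm σ f ∧ FixesForm (matrixSet R) f := by
  obtain ⟨X, c, hX, hc, hXc, hfix⟩ := exists_invariant hai σ hinv h
  obtain ⟨r, hr⟩ : ∃ r, σ r ≠ r := by
    by_contra hn
    push Not at hn
    exact hne (RingEquiv.ext hn)
  obtain ⟨d, hd0, hd⟩ : ∃ d, d ≠ 0 ∧ c * σ d = d := by
    have key : ∀ b, c * σ (b + c * σ b) = b + c * σ b := fun b => by
      rw [map_add, map_mul, hinv]
      linear_combination b * hc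
    by_cases h1 : (1 : F) + c = 0
    · refine ⟨r + c * σ r, fun e => hr ?_, key r⟩
      linear_combination σ r * h1 - e
    · exact ⟨1 + c * σ 1, by rwa [map_one, mul_one], key 1⟩
  refine ⟨matForm σ (d • X), matForm_unitary hne hinv (by
    rw [Matrix.det_smul]; exact mul_ne_zero (pow_ne_zero _ hd0) hX) ?_, fixesForm_of fun g hg => by
    rw [Matrix.mul_smul, Matrix.smul_mul, hfix g hg]⟩
  rw [Matrix.transpose_smul, Matrix.map_smul' _ _ _ σ.map_mul, hXc, smul_smul, mul_comm, hd]

/-- A quadratic form from real traces, in dimension three. -/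
theorem exists_quadratic {R : Subgroup (GL (Fin 3) F)} (hai : ActsAbsolutelyIrreducibly (matrixSet R))
    (h : ∀ g ∈ R, ((g⁻¹ : GL (Fin 3) F) : Matrix (Fin 3) (Fin 3) F).trace = (g : Matrix (Fin 3) (Fin 3) F).trace) :
    (2 : F) ≠ 0 ∧ ∃ Q, IsNondegenerateQuadraticForm Q ∧ FixesQuadForm (matrixSet R) Q := by
  classical
  obtain ⟨X, c, hX, hc, hXc, hfix⟩ := exists_invariant hai (RingEquiv.refl F) (fun _ => rfl) h
  simp only [RingEquiv.coe_refl, Matrix.map_id, RingEquiv.refl_apply] at hXc hc hfix
  have hf : ∀ g ∈ R, ∀ u v, matForm (RingEquiv.refl F) X ((g : Matrix (Fin 3) (Fin 3) F) *ᵥ u)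
      ((g : Matrix (Fin 3) (Fin 3) F) *ᵥ v) = matForm (RingEquiv.refl F) X u v := fun g hg u v => by
    rw [matForm_mulVec, RingEquiv.coe_refl, Matrix.map_id, hfix g hg]
  have hsymm : Xᵀ = X := by
    rcases mul_self_eq_one_iff.1 hc with rfl | rfl
    · rw [hXc, one_smul]
    · by_cases h2 : (2 : F) = 0
      · rw [hXc, show (-1 : F) = 1 by linear_combination -h2, one_smul]
      · exfalso
        have h1 := congrArg Matrix.det hXc
        rw [Matrix.det_transpose, Matrix.det_smul, Fintype.card_fin] at h1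
        exact hX ((mul_eq_zero.1 (show (2 : F) * X.det = 0 by linear_combination h1)).resolve_left h2)
  by_cases h2 : (2 : F) = 0
  · exfalso
    haveI : Fintype F := Fintype.ofFinite F
    have hs : ∀ u v, matForm (RingEquiv.refl F) X v u = matForm (RingEquiv.refl F) X u v := fun u v => by
      rw [matForm_transpose (c := 1) (by rw [one_smul]; exact hsymm) u v, one_mul]
    have hb := matForm_bilinear hX
    have hadd : ∀ u v, matQuad X (u + v) = matQuad X u + matQuad X v := fun u v => by
      simp only [matQuad]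
      rw [hb.add_left, hb.add_right, hb.add_right, hs u v]
      linear_combination matForm (RingEquiv.refl F) X u v * h2
    have hsm : ∀ (a : F) u, matQuad X (a • u) = a * a * matQuad X u := fun a u => by
      simp only [matQuad]; rw [hb.smul_left, hb.smul_right, mul_assoc]
    let W : Submodule F (Fin 3 → F) :=
      { carrier := {v | matQuad X v = 0}
        add_mem' := fun {u v} hu hv => by simp only [Set.mem_ofPred_eq] at *; rw [hadd, hu, hv, add_zero]
        zero_mem' := by
          show matQuad X 0 = 0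
          rw [← zero_smul F (0 : Fin 3 → F), hsm, zero_mul, zero_mul]
        smul_mem' := fun a v hv => by simp only [Set.mem_ofPred_eq] at *; rw [hsm, hv, mul_zero] }
    rcases hai.1 W (by
      rintro _ ⟨g, hg, rfl⟩ _ ⟨v, hv, rfl⟩
      rw [Matrix.toLin'_apply]
      show matQuad X _ = 0
      rw [matQuad, hf g hg]
      exact hv) with hW | hW
    · have hinj : Function.Injective (matQuad X) := fun u v e => by
        have h1 : u + v ∈ W := by
          show matQuad X (u + v) = 0
          rw [hadd, e]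
          linear_combination matQuad X v * h2
        rw [hW, Submodule.mem_bot] at h1
        funext i
        have := congrFun h1 i
        rw [Pi.add_apply, Pi.zero_apply] at this
        linear_combination this - v i * h2
      have := Fintype.card_le_of_injective _ hinj
      rw [Fintype.card_fun, Fintype.card_fin] at this
      have h1 := Fintype.one_lt_card (α := F)
      have h3 : Fintype.card F * Fintype.card F ≤ Fintype.card F ^ 3 := by
        rw [pow_succ, pow_two]; exact Nat.le_mul_of_pos_right _ (by omega)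
      nlinarith
    · exact Cfsg.Lib.Classical.PrimeDim.no_alternating (n := 3) (Fintype.card_fin 3) (by decide) hb
        (fun v => (show v ∈ W from hW ▸ Submodule.mem_top)) (matForm_nondegenerate hX)
  exact ⟨h2, matQuad X, matQuad_nondegenerate hX hsymm h2, forall_matrixSet.2 fun g hg v => hf g hg v v⟩

end Cfsg.Lib.MitchellThree.Residual
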