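import Cfsg.Agent.MitchellThree.Main
import Cfsg.Agent.MitchellThree.Residual.Cover
import Cfsg.Agent.MitchellThree.Residual.Cubic
import Cfsg.Agent.MitchellThree.Residual.Trace

/-!
The perfect core of a subgroup in the residual class: the cover of the simple quotient, its image in the projective
group, and decomposition of elements as a scalar times a lift of the same order.
-/

set_option autoImplicit false
set_option linter.unusedSectionVars false
set_option linter.style.haveILetI false

namespace Cfsg.Lib.MitchellThree.Residual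

open Matrix Subgroup Cfsg.Geo
open scoped MatrixGroups commutatorElement

universe u

variable {F : Type u} [Field F] [Finite F]

local notation "MM" => Matrix (Fin 3) (Fin 3) F
local notation "GG" => GL (Fin 3) F

/-- A perfect absolutely irreducible group, simple modulo scalars and realisable over no proper subfield. -/
structure Core (P : Subgroup (GL (Fin 3) F)) : Prop where
  perfect : ⁅P, P⁆ = P
  simple : IsSimpleGroup (P ⧸ (scalars (Fin 3) F).subgroupOf P)
  nonabelian : ¬ IsMulCommutative (P ⧸ (scalars (Fin 3) F).subgroupOf P)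
  absIrred : ActsAbsolutelyIrreducibly (matrixSet P)
  no_subfield : ∀ F₀ : Subfield F, F₀ ≠ ⊤ → ¬ RealisableOver F₀ (matrixSet P)

/-- The simple quotient. -/
abbrev Quot3 (P : Subgroup (GL (Fin 3) F)) : Type u := P ⧸ (scalars (Fin 3) F).subgroupOf P

/-- The projection. -/
abbrev proj (P : Subgroup (GL (Fin 3) F)) : P →* Quot3 P := QuotientGroup.mk' _

theorem core_of_residual {H P : Subgroup GG} (h : IsResidualCore H P) : Core P :=
  ⟨h.perfect, h.simple, h.nonabelian, h.absIrred, h.no_subfield⟩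

variable {P : Subgroup (GL (Fin 3) F)}

theorem tr_smul {g g' : GG} {c : F} (h : (g : MM) = c • (g' : MM)) : tr g = c * tr g' := by
  show (g : MM).trace = _
  rw [h, Matrix.trace_smul, smul_eq_mul]

/-- Traces all real. -/
def RealTr (P : Subgroup (GL (Fin 3) F)) : Prop := ∀ g ∈ P, tr g⁻¹ = tr g

/-- Inversion acts on traces by a power map. -/
def TwistTr (P : Subgroup (GL (Fin 3) F)) (m : ℕ) : Prop := ∀ g ∈ P, tr g⁻¹ = tr g ^ m

theorem Core.det (C : Core P) {g : GG} (hg : g ∈ P) : DetOne g := by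
  have hle : P ≤ (Matrix.GeneralLinearGroup.det : GG →* Fˣ).ker := by
    rw [← C.perfect, commutator_le]
    intro a _ b _
    rw [MonoidHom.mem_ker, map_commutatorElement, commutatorElement_eq_one_iff_mul_comm]
    exact mul_comm _ _
  have := congrArg Units.val (MonoidHom.mem_ker.1 (hle hg))
  exact this

/-- A scalar of the core is a cube root of one. -/
theorem Core.scalar (C : Core P) {g : GG} (hg : g ∈ P) (hs : g ∈ scalars (Fin 3) F) :
    ∃ c : F, c ^ 3 = 1 ∧ (g : MM) = c • (1 : MM) := by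
  obtain ⟨c, hc⟩ := (mem_scalars_iff g).1 hs
  refine ⟨c, ?_, hc⟩
  have h := C.det hg
  rw [DetOne, hc, Matrix.det_smul, Matrix.det_one, mul_one, Fintype.card_fin] at h
  exact h

theorem mem_ker_proj {g : P} : proj P g = 1 ↔ (g : GG) ∈ scalars (Fin 3) F :=
  (QuotientGroup.eq_one_iff g).trans mem_subgroupOf

theorem scalar_commute {g : GG} (hs : g ∈ scalars (Fin 3) F) (h : GG) : Commute g h := by
  obtain ⟨c, hc⟩ := (mem_scalars_iff g).1 hs
  refine Units.ext ?_
  rw [Units.val_mul, Units.val_mul, hc, Matrix.smul_mul, Matrix.one_mul, Matrix.mul_smul, Matrix.mul_one]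

theorem Core.isCover (C : Core P) : IsCover (proj P) := by
  classical
  refine ⟨Group.isPerfect_def.2 ?_, QuotientGroup.mk'_surjective _, fun z hz => mem_center_iff.2 fun y =>
    Subtype.ext ((scalar_commute (mem_ker_proj.1 hz) y).symm).eq, ?_⟩
  · apply Subgroup.map_injective P.subtype_injective
    rw [commutator_def, map_commutator, ← MonoidHom.range_eq_map, range_subtype, C.perfect]
  · haveI : Fact (Nat.Prime 3) := ⟨Nat.prime_three⟩
    have hex : ∀ z : (proj P).ker, ∃ c : F, c ^ 3 = 1 ∧ (((z : P) : GG) : MM) = c • (1 : MM) :=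
      fun z => C.scalar z.1.2 (mem_ker_proj.1 z.2)
    have hp : IsPGroup 3 (proj P).ker := fun z => ⟨1, by
      obtain ⟨c, hc3, hc⟩ := hex z
      refine Subtype.ext (Subtype.ext (Units.ext ?_))
      show (((z : P) : GG) ^ 3 ^ 1 : GG).val = 1
      rw [pow_one, Units.val_pow_eq_pow_val, hc, _root_.smul_pow, one_pow, hc3, one_smul]⟩
    choose f hf3 hf using hex
    have hinj : Function.Injective f := fun a b e => Subtype.ext (Subtype.ext (Units.ext (by rw [hf, hf, e])))
    have hle : Nat.card (proj P).ker ≤ 3 := by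
      refine (Nat.card_le_card_of_injective (fun z => (⟨f z, ?_⟩ :
        {x : F // x ∈ (Polynomial.nthRoots 3 (1 : F)).toFinset})) fun a b e => hinj (congrArg Subtype.val e)).trans ?_
      · rw [Multiset.mem_toFinset, Polynomial.mem_nthRoots (by norm_num)]
        exact hf3 z
      · rw [Nat.card_eq_fintype_card, Fintype.card_coe]
        exact (Multiset.toFinset_card_le _).trans (Polynomial.card_nthRoots 3 1)
    obtain ⟨k, hk⟩ := hp.exists_card_eq
    rw [hk] at hle ⊢
    rcases k with _ | _ | k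
    · exact one_dvd _
    · exact dvd_rfl
    · exfalso
      rw [pow_succ, pow_succ] at hle
      have : 1 ≤ 3 ^ k := Nat.one_le_pow _ _ (by norm_num)
      omega

/-- Cube roots of one in characteristic three. -/
theorem eq_one_of_cube [CharP F 3] {c : F} (h : c ^ 3 = 1) : c = 1 := by
  haveI : Fact (Nat.Prime 3) := ⟨Nat.prime_three⟩
  have : (c - 1) ^ 3 = 0 := by rw [sub_pow_char, h, one_pow, sub_self]
  exact sub_eq_zero.1 (pow_eq_zero_iff (by norm_num) |>.1 this)

theorem Core.ker_eq_bot_three [CharP F 3] (C : Core P) : (proj P).ker = ⊥ :=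
  (eq_bot_iff_forall _).2 fun z hz => by
    obtain ⟨c, hc3, hc⟩ := C.scalar z.2 (mem_ker_proj.1 hz)
    refine Subtype.ext (Units.ext ?_)
    rw [hc, eq_one_of_cube hc3, one_smul]
    rfl

theorem Core.ker_eq_bot_cyclic (C : Core P) [Fact (Nat.Prime 3)]
    (h : ∀ S : Sylow 3 (Quot3 P), IsCyclic (S : Subgroup (Quot3 P))) : (proj P).ker = ⊥ := by
  obtain ⟨S⟩ : Nonempty (Sylow 3 P) := inferInstance
  haveI : IsCyclic ((S : Subgroup P).map (proj P)) := by
    have := h (S.mapSurjective (f := proj P) (QuotientGroup.mk'_surjective _))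
    rwa [Sylow.coe_mapSurjective] at this
  exact C.isCover.ker_eq_bot S

theorem proj_injective (h : (proj P).ker = ⊥) : Function.Injective (proj P) := (MonoidHom.ker_eq_bot_iff _).1 h

/-- A lift of the same order, up to a cube root of one. -/
theorem Core.exists_lift (C : Core P) {g : P} {n : ℕ} (hn : proj P g ^ n = 1) (h3 : n.Coprime 3) :
    ∃ (g₀ : P) (c : F), g₀ ^ n = 1 ∧ c ^ 3 = 1 ∧ (((g : P) : GG) : MM) = c • ((g₀ : GG) : MM) ∧
      proj P g₀ = proj P g := by
  obtain ⟨m, hm⟩ : ∃ m, n * m % 3 = 1 := by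
    have hn3 : ¬ 3 ∣ n := (Nat.Prime.coprime_iff_not_dvd Nat.prime_three).1 h3.symm
    have : n % 3 = 1 ∨ n % 3 = 2 := by omega
    rcases this with e | e
    · exact ⟨1, by omega⟩
    · exact ⟨2, by omega⟩
  set w := g ^ n with hw
  have hwk : proj P w = 1 := by rw [hw, map_pow]; exact hn
  obtain ⟨d, hd3, hd⟩ := C.scalar w.2 (mem_ker_proj.1 hwk)
  have hw3 : w ^ 3 = 1 := Subtype.ext (Units.ext (by
    rw [SubmonoidClass.coe_pow, Units.val_pow_eq_pow_val, hd, _root_.smul_pow, one_pow, hd3, one_smul]; rfl))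
  have hwg : Commute w g := (Commute.refl g).pow_left n
  refine ⟨g * (w ^ m)⁻¹, d ^ m, ?_, by rw [← pow_mul, mul_comm, pow_mul, hd3, one_pow], ?_, ?_⟩
  · rw [((hwg.pow_left m).inv_left.symm).mul_pow, ← hw, inv_pow, ← pow_mul]
    have : w ^ (m * n) = w := by
      conv_lhs => rw [mul_comm, ← Nat.mod_add_div (n * m) 3, hm, pow_add, pow_one, pow_mul, hw3, one_pow, mul_one]
    rw [this, mul_inv_cancel]
  · have h1 : g = g * (w ^ m)⁻¹ * w ^ m := (inv_mul_cancel_right g _).symm
    conv_lhs => rw [h1]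
    rw [Subgroup.coe_mul, Units.val_mul, SubmonoidClass.coe_pow, Units.val_pow_eq_pow_val, hd, _root_.smul_pow,
      one_pow, Matrix.mul_smul, mul_one]
  · rw [map_mul, map_inv, map_pow, hwk, one_pow, inv_one, mul_one]

/-- A conjugation relation in the quotient lifts. -/
theorem Core.lift_conj (C : Core P) {g h : P} {n : ℕ} (hn : g ^ n = 1) (h3 : n.Coprime 3) {m : ℤ}
    (hc : proj P (h * g * h⁻¹) = proj P (g ^ m)) : h * g * h⁻¹ = g ^ m := by
  set w := (g ^ m)⁻¹ * (h * g * h⁻¹) with hw
  have hwk : proj P w = 1 := by rw [hw, map_mul, map_inv, hc, inv_mul_cancel]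
  obtain ⟨d, hd3, hd⟩ := C.scalar w.2 (mem_ker_proj.1 hwk)
  have hcomm : Commute (g ^ m) w := (show Commute w (g ^ m) from Subtype.ext
    (scalar_commute (mem_ker_proj.1 hwk) _).eq).symm
  have hwn : w ^ n = 1 := by
    have h1 : (g ^ m * w) ^ n = 1 := by
      rw [hw, mul_inv_cancel_left, conj_pow, hn, mul_one, mul_inv_cancel]
    rwa [hcomm.mul_pow, ← zpow_natCast (g ^ m), ← _root_.zpow_mul, mul_comm, _root_.zpow_mul, zpow_natCast, hn,
      _root_.one_zpow, one_mul] at h1
  have hw3 : w ^ 3 = 1 := Subtype.ext (Units.ext (by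
    rw [SubmonoidClass.coe_pow, Units.val_pow_eq_pow_val, hd, _root_.smul_pow, one_pow, hd3, one_smul]; rfl))
  have := pow_gcd_eq_one.2 ⟨hwn, hw3⟩
  rw [h3.gcd_eq_one, pow_one] at this
  exact (inv_mul_eq_one.1 this).symm

/-- The embedding in the projective group. -/
def toPG (P : Subgroup (GL (Fin 3) F)) : Quot3 P →* PG F :=
  QuotientGroup.map _ _ P.subtype le_rfl

theorem toPG_injective : Function.Injective (toPG P) := by
  refine (injective_iff_map_eq_one _).2 fun x hx => ?_
  obtain ⟨g, rfl⟩ := QuotientGroup.mk_surjective x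
  exact (QuotientGroup.eq_one_iff g).2 (mem_subgroupOf.2 ((QuotientGroup.eq_one_iff (g : GG)).1 hx))

theorem noSol_of_simple {T : Type u} [Group T] [IsSimpleGroup T] (h : ¬ IsMulCommutative T) : NoSol T := by
  intro N hN hs
  rcases IsSimpleGroup.eq_bot_or_eq_top_of_normal N hN with e | e
  · exact e
  · exfalso
    subst e
    haveI := hs
    haveI : Group.IsSolvable T := Group.isSolvable_of_surjective (f := (Subgroup.topEquiv : (⊤ : Subgroup T) ≃* T).toMonoidHom)
      (Subgroup.topEquiv : (⊤ : Subgroup T) ≃* T).surjective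
    exact h ⟨⟨IsSimpleGroup.comm_iff_isSolvable.2 inferInstance⟩⟩

/-- The possible quotients without an elation, odd characteristic. -/
def OddTypes (p : ℕ) (P : Subgroup (GL (Fin 3) F)) : Prop :=
  (∃ (K : Type) (_ : Field K) (_ : Fintype K), (∃ b, Fintype.card K = p ^ b) ∧
    Nonempty (Quot3 P ≃* Matrix.ProjectiveSpecialLinearGroup (Fin 2) K)) ∨
  (∃ (K : Type) (_ : Field K) (_ : Fintype K), Fintype.card K = 5 ∧
    Nonempty (Quot3 P ≃* Matrix.ProjectiveSpecialLinearGroup (Fin 2) K)) ∨
  (∃ (K : Type) (_ : Field K) (_ : Fintype K), Fintype.card K = 7 ∧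
    Nonempty (Quot3 P ≃* Matrix.ProjectiveSpecialLinearGroup (Fin 2) K)) ∨
  Nonempty (Quot3 P ≃* alternatingGroup (Fin 6)) ∨
  (p = 5 ∧ Nonempty (Quot3 P ≃* alternatingGroup (Fin 7)))

/-- In odd characteristic the core contains a transvection or has a small quotient. -/
theorem Core.transvection_or_small (C : Core P) {p : ℕ} [hp : Fact p.Prime] [CharP F p] (hp2 : p ≠ 2) :
    (∃ x φ : Fin 3 → F, x ≠ 0 ∧ φ ≠ 0 ∧ Cfsg.Lib.Classical.SLThree.Elation.Inc P x φ) ∨ OddTypes p P := by
  classical
  haveI : Fintype F := Fintype.ofFinite F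
  obtain ⟨α, -, hα⟩ := FiniteField.card F p
  haveI := C.simple
  have hF : Nat.card F = p ^ (α : ℕ) := by rw [Nat.card_eq_fintype_card]; exact hα
  rcases elation_or_small hp2 hF (toPG P) toPG_injective (noSol_of_simple C.nonabelian) with h | ⟨L, -, -, -, -, y, -, hy⟩
  · refine Or.inr ?_
    rcases h with ⟨K, iK, iF, b, hb, -, -, h | h⟩ | ⟨-, h⟩ | ⟨-, h⟩ | ⟨hp5, -, h⟩ | ⟨-, h⟩
    · exact Or.inl ⟨K, iK, iF, ⟨b, hb⟩, h⟩
    · exfalso
      -- the determinant modulo squares gives a normal subgroup of index two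
      obtain ⟨e⟩ := h
      let δ : GL (Fin 2) K →* Kˣ ⧸ (powMonoidHom 2 : Kˣ →* Kˣ).range :=
        (QuotientGroup.mk' _).comp Matrix.GeneralLinearGroup.det
      have hδ : Function.Surjective δ :=
        (QuotientGroup.mk'_surjective _).comp fun u => ⟨Matrix.GeneralLinearGroup.mkOfDetNeZero
          (Matrix.diagonal ![(u : K), 1]) (by simp), Units.ext (by
            rw [Matrix.GeneralLinearGroup.val_det_apply]
            show (Matrix.diagonal ![(u : K), 1]).det = (u : K)
            simp)⟩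
      have hc : Subgroup.center (GL (Fin 2) K) ≤ δ.ker := by
        intro g hg
        obtain ⟨u, rfl⟩ : ∃ u : Kˣ, Matrix.GeneralLinearGroup.scalar (Fin 2) u = g := by
          rw [Matrix.GeneralLinearGroup.center_eq_range_scalar] at hg
          exact hg
        refine MonoidHom.mem_ker.2 ((QuotientGroup.eq_one_iff _).2 ⟨u, Units.ext ?_⟩)
        rw [Matrix.GeneralLinearGroup.val_det_apply]
        simp [powMonoidHom, Matrix.GeneralLinearGroup.scalar, Matrix.det_diagonal]
      let θ : Quot3 P →* Kˣ ⧸ (powMonoidHom 2 : Kˣ →* Kˣ).range :=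
        (QuotientGroup.lift _ δ hc).comp e.toMonoidHom
      have hθ : Function.Surjective θ := fun w => by
        obtain ⟨g, hg⟩ := hδ w
        exact ⟨e.symm (QuotientGroup.mk g), by simp [θ, hg]⟩
      have hnt : Nontrivial (Kˣ ⧸ (powMonoidHom 2 : Kˣ →* Kˣ).range) := by
        rw [QuotientGroup.nontrivial_iff]
        intro htop
        have hsurj : Function.Surjective (powMonoidHom 2 : Kˣ →* Kˣ) := MonoidHom.range_eq_top.1 htop
        have hinj := Finite.injective_iff_surjective.2 hsurj
        have h1 : (powMonoidHom 2 : Kˣ →* Kˣ) (-1) = powMonoidHom 2 1 := by simp [powMonoidHom]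
        have h2 := congrArg Units.val (hinj h1)
        push_cast at h2
        haveI : CharP K p := by
          obtain ⟨r, hr⟩ := CharP.exists K
          obtain ⟨n, hrp, hn⟩ := FiniteField.card K r
          have hd : r ∣ p ^ b := hb ▸ hn ▸ dvd_pow_self r n.pos.ne'
          rwa [← (Nat.prime_dvd_prime_iff_eq hrp hp.out).1 (hrp.dvd_of_dvd_pow hd)]
        exact Ring.neg_one_ne_one_of_char_ne_two (by rw [ringChar.eq K p]; exact hp2) h2
      rcases IsSimpleGroup.eq_bot_or_eq_top_of_normal θ.ker inferInstance with k | k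
      · refine C.nonabelian ⟨⟨fun a b => (MonoidHom.ker_eq_bot_iff θ).1 k ?_⟩⟩
        rw [map_mul, map_mul]
        exact mul_comm (G := Kˣ ⧸ (powMonoidHom 2 : Kˣ →* Kˣ).range) _ _
      · obtain ⟨w, hw⟩ := exists_ne (1 : Kˣ ⧸ (powMonoidHom 2 : Kˣ →* Kˣ).range)
        obtain ⟨t, rfl⟩ := hθ w
        exact hw (MonoidHom.mem_ker.1 (k ▸ Subgroup.mem_top t))
    · exact Or.inr (Or.inl h)
    · exact Or.inr (Or.inr (Or.inl h))
    · rcases h with h | h | ⟨L, hL, -⟩
      · exact Or.inr (Or.inr (Or.inr (Or.inl h)))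
      · exact Or.inr (Or.inr (Or.inr (Or.inr ⟨hp5, h⟩)))
      · exfalso
        haveI := Subgroup.normal_of_index_eq_two hL
        rcases IsSimpleGroup.eq_bot_or_eq_top_of_normal L inferInstance with e | e
        · rw [e, Subgroup.index_bot] at hL
          haveI : Fact (Nat.Prime 2) := ⟨Nat.prime_two⟩
          haveI := isCyclic_of_prime_card hL
          exact C.nonabelian ⟨⟨fun a b => IsCyclic.commGroup.mul_comm a b⟩⟩
        · rw [e, Subgroup.index_top] at hL; omega
    · exact Or.inr (Or.inr (Or.inr (Or.inl h)))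
  · refine Or.inl ?_
    obtain ⟨g, hgy, u, φ, hu, hφ, h0, hg⟩ := hy
    obtain ⟨x, rfl⟩ := QuotientGroup.mk_surjective y
    have hs : (x : GG)⁻¹ * g ∈ scalars (Fin 3) F := QuotientGroup.eq.1 hgy.symm
    obtain ⟨c, hc⟩ := (mem_scalars_iff _).1 hs
    have hgx : (g : MM) = (c : F) • ((x : GG) : MM) := by
      rw [show g = (x : GG) * ((x : GG)⁻¹ * g) from (mul_inv_cancel_left _ _).symm, Units.val_mul, hc,
        Matrix.mul_smul, mul_one]
    have hdet : (c : F) ^ 3 = 1 := by
      have h1 : (g : MM).det = 1 := by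
        rw [hg, Matrix.vecMulVec_eq Unit, Matrix.det_one_add_replicateCol_mul_replicateRow, h0, add_zero]
      rw [hgx, Matrix.det_smul, show ((x : GG) : MM).det = 1 from C.det x.2, mul_one, Fintype.card_fin] at h1
      exact h1
    refine ⟨u, φ, hu, hφ, h0, ?_⟩
    rcases eq_or_ne p 3 with rfl | hp3
    · exact ⟨x, x.2, by rw [← hg, hgx, eq_one_of_cube hdet, one_smul]⟩
    -- a power congruent to one modulo the characteristic and to zero modulo three
    obtain ⟨k, hk1, hk3⟩ : ∃ k : ℕ, (k : F) = 1 ∧ 3 ∣ k := by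
      obtain ⟨k, hk⟩ := Nat.chineseRemainder ((Nat.coprime_primes hp.out Nat.prime_three).2 hp3) 1 0
      refine ⟨k, ?_, Nat.modEq_zero_iff_dvd.1 hk.2⟩
      rw [(CharP.natCast_eq_natCast F p).2 hk.1, Nat.cast_one]
    refine ⟨(x : GG) ^ k, P.pow_mem x.2 k, ?_⟩
    have hN : ∀ j : ℕ, ((g ^ j : GG) : MM) = 1 + (j : F) • vecMulVec u φ := by
      intro j
      induction j with
      | zero => simp
      | succ j ih =>
        have hsq : vecMulVec u φ * vecMulVec u φ = 0 := by
          rw [vecMulVec_mul_vecMulVec, h0, zero_smul, vecMulVec_zero]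
        rw [pow_succ, Units.val_mul, ih, hg, mul_add, mul_one, add_mul, one_mul, smul_mul_assoc, hsq, smul_zero,
          add_zero, Nat.cast_succ, add_smul, one_smul, add_assoc]
    have hk : ((g ^ k : GG) : MM) = (((x : GG) ^ k : GG) : MM) := by
      obtain ⟨l, rfl⟩ := hk3
      rw [Units.val_pow_eq_pow_val, hgx, _root_.smul_pow, pow_mul (c : F), hdet, one_pow, one_smul,
        Units.val_pow_eq_pow_val]
    rw [← hk, hN, hk1, one_smul]

end Cfsg.Lib.MitchellThree.Residual
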