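import Cfsg.Agent.Classical.Aschbacher.SympFourBase
import Cfsg.Agent.Classical.PrimeDim.Schur
import Mathlib.RingTheory.SimpleModule.Basic

/-!
An absolutely irreducible matrix group spans the whole matrix algebra, and two representations with the same traces
and spanning images are equivalent.
-/

set_option autoImplicit false
set_option linter.unusedSectionVars false
set_option linter.style.haveILetI false

namespace Cfsg.Lib.MitchellThree.Residual

open Matrix Cfsg.Geo
open scoped MatrixGroups
open Cfsg.Lib.Classical.PrimeDim (mem_matrixSet)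

universe u

variable {ι : Type} [Fintype ι] [DecidableEq ι] {F : Type u} [Field F]

/-- A multiplicatively closed set with one spans a subalgebra. -/
theorem span_mul_mem (R : Subgroup (GL ι F)) {X Y : Matrix ι ι F}
    (hX : X ∈ Submodule.span F (matrixSet R)) (hY : Y ∈ Submodule.span F (matrixSet R)) :
    X * Y ∈ Submodule.span F (matrixSet R) := by
  induction hX using Submodule.span_induction with
  | mem x hx =>
    obtain ⟨g, hg, rfl⟩ := hx
    induction hY using Submodule.span_induction with
    | mem y hy =>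
      obtain ⟨h, hh, rfl⟩ := hy
      exact Submodule.subset_span ⟨g * h, R.mul_mem hg hh, rfl⟩
    | zero => simp
    | add a b _ _ ha hb => rw [mul_add]; exact add_mem ha hb
    | smul c a _ ha => rw [mul_smul_comm]; exact Submodule.smul_mem _ c ha
  | zero => simp
  | add a b _ _ ha hb => rw [add_mul]; exact add_mem ha hb
  | smul c a _ ha => rw [smul_mul_assoc]; exact Submodule.smul_mem _ c ha

/-- An absolutely irreducible group spans all matrices. -/
theorem span_eq_top [Nonempty ι] {R : Subgroup (GL ι F)} (hai : ActsAbsolutelyIrreducibly (matrixSet R))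
    (X : Matrix ι ι F) : X ∈ Submodule.span F (matrixSet R) := by
  classical
  let A : Subalgebra F (Matrix ι ι F) :=
    { carrier := Submodule.span F (matrixSet R)
      mul_mem' := span_mul_mem R
      one_mem' := Submodule.subset_span ⟨1, R.one_mem, rfl⟩
      add_mem' := add_mem
      zero_mem' := zero_mem _
      algebraMap_mem' := fun k => by
        rw [Algebra.algebraMap_eq_smul_one]
        exact Submodule.smul_mem _ k (Submodule.subset_span ⟨1, R.one_mem, rfl⟩) }
  letI : Module A (ι → F) := Module.compHom (ι → F) ((Matrix.toLinAlgEquiv'.toAlgHom.comp A.val).toRingHom)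
  have hsmul : ∀ (a : A) (v : ι → F), a • v = (a : Matrix ι ι F) *ᵥ v := fun a v => rfl
  have hscal : ∀ (k : F) (v : ι → F), (algebraMap F A k) • v = k • v := fun k v => by
    rw [hsmul, Subalgebra.coe_algebraMap, Algebra.algebraMap_eq_smul_one, Matrix.smul_mulVec, Matrix.one_mulVec]
  haveI : IsSimpleModule A (ι → F) := by
    refine (isSimpleModule_iff _ _).2 ?_
    haveI : Nontrivial (Submodule A (ι → F)) := by
      refine ⟨⊥, ⊤, fun e => ?_⟩
      obtain ⟨v, hv⟩ := exists_ne (0 : ι → F)
      exact hv ((Submodule.mem_bot A).1 (e ▸ Submodule.mem_top))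
    refine ⟨fun U => ?_⟩
    let U' : Submodule F (ι → F) :=
      { carrier := U
        add_mem' := U.add_mem
        zero_mem' := U.zero_mem
        smul_mem' := fun k v hv => by rw [← hscal]; exact U.smul_mem _ hv }
    rcases hai.1 U' (by
      rintro _ ⟨g, hg, rfl⟩ _ ⟨v, hv, rfl⟩
      rw [Matrix.toLin'_apply]
      exact U.smul_mem (⟨_, Submodule.subset_span ⟨g, hg, rfl⟩⟩ : A) hv) with h | h
    · exact Or.inl ((Submodule.eq_bot_iff _).2 fun v hv => (Submodule.eq_bot_iff _).1 h v hv)
    · exact Or.inr (Submodule.eq_top_iff'.2 fun v => (Submodule.eq_top_iff'.1 h v : v ∈ U'))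
  have hend : ∀ φ : Module.End A (ι → F), ∃ c : F, ∀ v, φ v = c • v := by
    intro φ
    let L : (ι → F) →ₗ[F] (ι → F) :=
      { toFun := φ
        map_add' := map_add φ
        map_smul' := fun k v => by rw [RingHom.id_apply, ← hscal, map_smul, hscal] }
    obtain ⟨c, hc⟩ := hai.2 (LinearMap.toMatrix' L) (by
      rintro _ ⟨g, hg, rfl⟩
      apply Matrix.toLin'.injective
      refine LinearMap.ext fun v => ?_
      rw [Matrix.toLin'_mul, Matrix.toLin'_mul, Matrix.toLin'_toMatrix', LinearMap.comp_apply, LinearMap.comp_apply,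
        Matrix.toLin'_apply, Matrix.toLin'_apply]
      exact φ.map_smul (⟨_, Submodule.subset_span ⟨g, hg, rfl⟩⟩ : A) v)
    refine ⟨c, fun v => ?_⟩
    have h1 : LinearMap.toMatrix' L *ᵥ v = φ v := by
      rw [← Matrix.toLin'_apply, Matrix.toLin'_toMatrix']; rfl
    rw [← h1, hc, Matrix.smul_mulVec, Matrix.one_mulVec]
  let f : Module.End (Module.End A (ι → F)) (ι → F) :=
    { toFun := fun v => X *ᵥ v
      map_add' := Matrix.mulVec_add X
      map_smul' := fun φ v => by
        obtain ⟨c, hc⟩ := hend φ
        rw [RingHom.id_apply, Module.End.smul_def, Module.End.smul_def, hc, hc, Matrix.mulVec_smul] }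
  obtain ⟨r, hr⟩ := jacobson_density f (Finset.univ.image fun i => (Pi.single i 1 : ι → F))
  have he : X = (r : Matrix ι ι F) := by
    ext i j
    have := congrFun (hr (Pi.single j 1) (Finset.mem_image.2 ⟨j, Finset.mem_univ _, rfl⟩)) i
    change (X *ᵥ Pi.single j 1) i = ((r : Matrix ι ι F) *ᵥ Pi.single j 1) i at this
    simpa using this
  rw [he]
  exact r.2

/-- Representations with the same traces and spanning images are equivalent. -/
theorem exists_intertwiner [Nonempty ι] {α : Type*} [Monoid α] (ρ ρ' : α →* Matrix ι ι F)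
    (h : ∀ a, (ρ' a).trace = (ρ a).trace) (hρ : ∀ X, X ∈ Submodule.span F (Set.range ρ))
    (hρ' : ∀ X, X ∈ Submodule.span F (Set.range ρ')) :
    ∃ X : Matrix ι ι F, X.det ≠ 0 ∧ ∀ a, ρ' a * X = X * ρ a := by
  classical
  let L : (α →₀ F) →ₗ[F] Matrix ι ι F := Finsupp.linearCombination F ρ
  let L' : (α →₀ F) →ₗ[F] Matrix ι ι F := Finsupp.linearCombination F ρ'
  have hLtop : LinearMap.range L = ⊤ := by
    rw [Finsupp.range_linearCombination]; exact Submodule.eq_top_iff'.2 hρ
  obtain ⟨s, hs⟩ := L.exists_rightInverse_of_surjective hLtop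
  have hker : ∀ c, L c = 0 → L' c = 0 := by
    intro c hc
    have h0 : ∀ b, (L' c * ρ' b).trace = 0 := fun b => by
      have h1 : (L c * ρ b).trace = (L' c * ρ' b).trace := by
        simp only [L, L', Finsupp.linearCombination_apply, Finsupp.sum, Finset.sum_mul, Matrix.trace_sum,
          smul_mul_assoc, Matrix.trace_smul, ← map_mul, h]
      rw [← h1, hc, zero_mul, Matrix.trace_zero]
    have h2 : ∀ Y ∈ Submodule.span F (Set.range ρ'), (L' c * Y).trace = 0 := by
      intro Y hY
      induction hY using Submodule.span_induction with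
      | mem x hx => obtain ⟨b, rfl⟩ := hx; exact h0 b
      | zero => simp
      | add a b _ _ ha hb => rw [mul_add, Matrix.trace_add, ha, hb, add_zero]
      | smul k a _ ha => rw [mul_smul_comm, Matrix.trace_smul, ha, smul_zero]
    ext i j
    have := h2 (Matrix.single j i 1) (hρ' _)
    simpa [Matrix.trace, Matrix.mul_apply, Matrix.single_apply, ite_and] using this
  let φ : Matrix ι ι F →ₗ[F] Matrix ι ι F := L'.comp s
  have hLs : ∀ X, L (s X) = X := fun X => LinearMap.congr_fun hs X
  have hφ : ∀ a, φ (ρ a) = ρ' a := fun a => by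
    have := hker (s (ρ a) - Finsupp.single a 1) (by
      rw [map_sub, hLs]; simp [L])
    rw [map_sub, sub_eq_zero] at this
    simpa [φ, L'] using this
  have hmul : ∀ A B, φ (A * B) = φ A * φ B := by
    intro A B
    have hA := hρ A
    have hB := hρ B
    induction hA using Submodule.span_induction with
    | mem x hx =>
      induction hB using Submodule.span_induction with
      | mem y hy =>
        obtain ⟨a, rfl⟩ := hx
        obtain ⟨b, rfl⟩ := hy
        rw [← map_mul, hφ, hφ, hφ, map_mul]
      | zero => simp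
      | add y z _ _ hy hz => rw [mul_add, map_add, map_add, hy, hz, mul_add]
      | smul k y _ hy => rw [mul_smul_comm, map_smul, map_smul, hy, mul_smul_comm]
    | zero => simp
    | add x y _ _ hx hy => rw [add_mul, map_add, map_add, hx, hy, add_mul]
    | smul k x _ hx => rw [smul_mul_assoc, map_smul, map_smul, hx, smul_mul_assoc]
  have hφ1 : φ 1 = 1 := by simpa using hφ 1
  obtain ⟨i₀⟩ := ‹Nonempty ι›
  have hE : φ (Matrix.single i₀ i₀ 1) ≠ 0 := by
    intro e
    have hall : ∀ i, φ (Matrix.single i i 1) = 0 := fun i => by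
      have h1 : Matrix.single i i (1 : F) = Matrix.single i i₀ 1 * Matrix.single i₀ i₀ 1 * Matrix.single i₀ i 1 := by
        simp
      rw [h1, hmul, hmul, e, mul_zero, zero_mul]
    have h1 : (1 : Matrix ι ι F) = ∑ i, Matrix.single i i (1 : F) := by
      ext a b
      simp [Matrix.sum_apply, Matrix.single_apply, Matrix.one_apply, ite_and]
    have := hφ1
    rw [h1, map_sum, Finset.sum_eq_zero (fun i _ => hall i), ← h1] at this
    exact zero_ne_one this
  obtain ⟨a, b, hab⟩ : ∃ a b, φ (Matrix.single i₀ i₀ 1) a b ≠ 0 := by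
    by_contra hc
    push Not at hc
    exact hE (Matrix.ext hc)
  let v : ι → F := Pi.single b 1
  let M : Matrix ι ι F := Matrix.of fun r c => (φ (Matrix.single c i₀ 1) *ᵥ v) r
  have hkey : ∀ A, φ A * M = M * A := by
    intro A
    ext r c
    have h1 : A * Matrix.single c i₀ (1 : F) = ∑ k, A k c • Matrix.single k i₀ (1 : F) := by
      ext x y
      simp [Matrix.sum_apply, Matrix.single_apply, Matrix.mul_apply, ite_and]
    calc (φ A * M) r c = (φ A *ᵥ (φ (Matrix.single c i₀ 1) *ᵥ v)) r := rfl
      _ = (φ (A * Matrix.single c i₀ 1) *ᵥ v) r := by rw [Matrix.mulVec_mulVec, hmul]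
      _ = (M * A) r c := by
        rw [h1, map_sum, Matrix.sum_mulVec, Finset.sum_apply, Matrix.mul_apply]
        refine Finset.sum_congr rfl fun k _ => ?_
        rw [map_smul, Matrix.smul_mulVec, Pi.smul_apply, smul_eq_mul]
        exact mul_comm _ _
  have hM : M ≠ 0 := fun e => by
    have := congrFun (congrFun e a) i₀
    simp [M, v] at this
    exact hab this
  refine ⟨M, fun hd => hM ?_, fun x => by rw [← hφ, hkey]⟩
  obtain ⟨w, hw, hw0⟩ := Matrix.exists_mulVec_eq_zero_iff.2 hd
  obtain ⟨i, hi⟩ := Function.ne_iff.1 hw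
  ext r c
  have h1 : M *ᵥ ((Matrix.single c i (1 : F)) *ᵥ w) = 0 := by
    rw [Matrix.mulVec_mulVec, ← hkey, ← Matrix.mulVec_mulVec, hw0, Matrix.mulVec_zero]
  rw [Matrix.single_mulVec, one_mul] at h1
  have h2 := congrFun h1 r
  simp [Matrix.mulVec, dotProduct, Function.update_apply] at h2
  exact h2.resolve_right hi

end Cfsg.Lib.MitchellThree.Residual
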