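import Cfsg.Agent.MitchellThree.Residual.Setting
import Cfsg.Agent.MitchellThree.Residual.GroupFacts

/-!
Trace values of the core for the small quotients, and the fields they generate.
-/

set_option autoImplicit false
set_option linter.unusedSectionVars false
set_option linter.style.haveILetI false

namespace Cfsg.Lib.MitchellThree.Residual

open Matrix Subgroup Cfsg.Geo
open scoped MatrixGroups commutatorElement

universe u

variable {F : Type u} [Field F] [Finite F]

local notation "MM" => Matrix (Fin 3) (Fin 3) F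
local notation "GG" => GL (Fin 3) F

variable {P : Subgroup (GL (Fin 3) F)} {p : ℕ} [hp : Fact p.Prime] [CharP F p]

include hp

/-- Traces fixed by a power of the Frobenius map bound the field. -/
theorem Core.card_le (C : Core P) {e : ℕ} (he : 0 < e) (h : ∀ g ∈ P, tr g ^ p ^ e = tr g) :
    Nat.card F ≤ p ^ e := by
  classical
  haveI : Fintype F := Fintype.ofFinite F
  let F₀ : Subfield F := RingHom.eqLocusField (iterateFrobenius F p e) (RingHom.id F)
  have hF₀ : ∀ x, x ∈ F₀ ↔ x ^ p ^ e = x := fun x => by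
    show iterateFrobenius F p e x = x ↔ _
    rw [iterateFrobenius_def]
  have htop := eq_top_of_trace C.absIrred C.no_subfield F₀ fun g hg => (hF₀ _).2 (h g hg)
  have hall : ∀ x : F, x ^ p ^ e = x := fun x => (hF₀ x).1 (htop ▸ Subfield.mem_top x)
  by_contra hlt
  push Not at hlt
  have h1 : 1 < p ^ e := Nat.one_lt_pow he.ne' hp.out.one_lt
  refine FiniteField.X_pow_card_sub_X_ne_zero F h1
    (Polynomial.eq_zero_of_natDegree_lt_card_of_eval_eq_zero _ Function.injective_id (fun x => ?_) ?_)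
  · simp [hall x]
  · rw [FiniteField.X_pow_card_sub_X_natDegree_eq F h1, ← Nat.card_eq_fintype_card]
    exact hlt

theorem card_cases {e : ℕ} (h : Nat.card F ≤ p ^ e) (he : e ≤ 2) : Nat.card F = p ∨ Nat.card F = p ^ 2 := by
  haveI : Fintype F := Fintype.ofFinite F
  obtain ⟨n, -, hn⟩ := FiniteField.card F p
  rw [Nat.card_eq_fintype_card, hn] at h ⊢
  have h1 : (n : ℕ) ≤ 2 := le_trans ((Nat.pow_le_pow_iff_right hp.out.two_le).1 h) he
  have h2 := n.pos
  rcases (show (n : ℕ) = 1 ∨ (n : ℕ) = 2 by omega) with h3 | h3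
  · exact Or.inl (by rw [h3, pow_one])
  · exact Or.inr (by rw [h3])

omit hp in
theorem pow_eq_self_of_card {m : ℕ} (h : Nat.card F = m) (x : F) : x ^ m = x := by
  haveI : Fintype F := Fintype.ofFinite F
  rw [← h, Nat.card_eq_fintype_card, FiniteField.pow_card]

theorem three_pow : (3 : F) ^ p = 3 := by
  have := map_natCast (frobenius F p) 3
  rw [frobenius_def] at this
  exact_mod_cast this

/-- A real element whose order is coprime to or a power of the characteristic. -/
theorem real_frob {g : GG} {n : ℕ} (hn : g ^ n = 1) (hr : tr g⁻¹ = tr g)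
    (hpn : p % n = 1 ∨ p % n + 1 = n ∨ ∃ k, n = p ^ k) : tr g ^ p = tr g := by
  have h0 := tr_pow_char (p := p) g 1
  rw [pow_one] at h0
  have hmod : g ^ p = g ^ (p % n) := by
    conv_lhs => rw [← Nat.mod_add_div p n, pow_add, pow_mul, hn, one_pow, mul_one]
  rcases hpn with h | h | ⟨k, rfl⟩
  · rw [← h0, hmod, h, pow_one]
  · rw [← h0, hmod]
    have h1 : g ^ (p % n) * g = 1 := by rw [← pow_succ, h, hn]
    rw [eq_inv_of_mul_eq_one_left h1, hr]
  · rw [tr_unipotent hn, three_pow]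

/-- Elements of order seven conjugate to their squares. -/
theorem seven_frob {g h : GG} (h7 : g ^ 7 = 1) (hc : h * g * h⁻¹ = g * g) :
    ((p % 7 = 1 ∨ p % 7 = 2 ∨ p % 7 = 4) → tr g ^ p = tr g) ∧
      ((p % 7 = 3 ∨ p % 7 = 5 ∨ p % 7 = 6) → tr g ^ p = tr g⁻¹) := by
  have h0 := tr_pow_char (p := p) g 1
  rw [pow_one] at h0
  have hmod : ∀ m, g ^ m = g ^ (m % 7) := fun m => by
    conv_lhs => rw [← Nat.mod_add_div m 7, pow_add, pow_mul, h7, one_pow, mul_one]
  have hdbl : ∀ m, tr (g ^ (m * 2 % 7)) = tr (g ^ m) := fun m => by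
    rw [← hmod, mul_comm, pow_mul, pow_two, ← hc, conj_pow, tr_conj]
  have h6 : g ^ 6 = g⁻¹ := eq_inv_of_mul_eq_one_left (by rw [← pow_succ, h7])
  rw [← h0, hmod p, ← h6]
  constructor <;> rintro (e | e | e) <;> rw [e]
  · rw [pow_one]
  · exact (hdbl 1).trans (by rw [pow_one])
  · exact (hdbl 2).trans ((hdbl 1).trans (by rw [pow_one]))
  · exact (hdbl 3).symm
  · exact (hdbl 5).symm.trans (hdbl 3).symm

omit hp in
theorem inv_smul_val {g g₀ : GG} {c : F} (hc : c ^ 3 = 1) (h : (g : MM) = c • (g₀ : MM)) :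
    ((g⁻¹ : GG) : MM) = c ^ 2 • ((g₀⁻¹ : GG) : MM) := by
  refine Units.inv_eq_of_mul_eq_one_right ?_
  rw [h, smul_mul_smul_comm, ← Units.val_mul, mul_inv_cancel, Units.val_one, ← pow_succ', hc, one_smul]

omit hp in
theorem tr_decomp {g g₀ : GG} {c : F} (hc : c ^ 3 = 1) (h : (g : MM) = c • (g₀ : MM)) :
    tr g = c * tr g₀ ∧ tr g⁻¹ = c ^ 2 * tr g₀⁻¹ :=
  ⟨tr_smul h, tr_smul (inv_smul_val hc h)⟩

omit hp in
theorem cube_pow {c : F} (hc : c ^ 3 = 1) (m : ℕ) : c ^ m = c ^ (m % 3) := by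
  conv_lhs => rw [← Nat.mod_add_div m 3, pow_add, pow_mul, hc, one_pow, mul_one]

omit hp in
/-- Reality lifts to elements of order coprime to three. -/
theorem Core.real_of_quot (C : Core P) {g : P} {n : ℕ} (hn : g ^ n = 1) (h3 : n.Coprime 3) {h : Quot3 P}
    (hh : h * proj P g * h⁻¹ = (proj P g)⁻¹) : tr (g : GG)⁻¹ = tr (g : GG) := by
  obtain ⟨h, rfl⟩ := QuotientGroup.mk'_surjective _ h
  have h1 := C.lift_conj hn h3 (m := -1) (h := h) (by rw [map_mul, map_mul, map_inv, _root_.zpow_neg_one, map_inv]; exact hh)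
  rw [_root_.zpow_neg_one] at h1
  have h2 := congrArg (fun y : P => tr (y : GG)) h1
  simp only [Subgroup.coe_mul, Subgroup.coe_inv, tr_conj] at h2
  exact h2.symm

omit hp in
theorem real_of_bot (hker : (proj P).ker = ⊥) {g : P} {h : Quot3 P}
    (hh : h * proj P g * h⁻¹ = (proj P g)⁻¹) : tr (g : GG)⁻¹ = tr (g : GG) := by
  obtain ⟨h, rfl⟩ := QuotientGroup.mk'_surjective _ h
  have h1 : h * g * h⁻¹ = g⁻¹ := proj_injective hker (by rw [map_mul, map_mul, map_inv, map_inv]; exact hh)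
  have h2 := congrArg (fun y : P => tr (y : GG)) h1
  simp only [Subgroup.coe_mul, Subgroup.coe_inv, tr_conj] at h2
  exact h2.symm

omit hp in
theorem pull_conj {T : Type*} [Group T] (e : Quot3 P ≃* T) {g : P} {h : T}
    (hh : h * e (proj P g) * h⁻¹ = (e (proj P g))⁻¹) : e.symm h * proj P g * (e.symm h)⁻¹ = (proj P g)⁻¹ :=
  e.injective (by simp only [map_mul, map_inv, MulEquiv.apply_symm_apply]; exact hh)

section psl

variable {K : Type} [Field K] [Fintype K]

omit hp in
theorem Core.ker_eq_bot_psl (C : Core P) (h3 : (3 : K) ≠ 0)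
    (e : Quot3 P ≃* Matrix.ProjectiveSpecialLinearGroup (Fin 2) K) : (proj P).ker = ⊥ := by
  haveI : Fact (Nat.Prime 3) := ⟨Nat.prime_three⟩
  refine C.ker_eq_bot_cyclic fun S => ?_
  have hc := psl_sylow_three_cyclic h3 (S.mapSurjective (f := e.toMonoidHom) e.surjective)
  haveI : IsCyclic ((S : Subgroup (Quot3 P)).map e.toMonoidHom) := hc
  exact isCyclic_of_surjective _ ((S : Subgroup (Quot3 P)).equivMapOfInjective e.toMonoidHom e.injective).symm.surjective

/-- Two-dimensional groups in the same characteristic have real traces. -/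
theorem Core.real_of_psl_char (C : Core P) {b : ℕ} (hK : Fintype.card K = p ^ b)
    (e : Quot3 P ≃* Matrix.ProjectiveSpecialLinearGroup (Fin 2) K) : RealTr P := by
  haveI : CharP K p := by
    obtain ⟨r, hr⟩ := CharP.exists K
    obtain ⟨n, hrp, hn⟩ := FiniteField.card K r
    have hd : r ∣ p ^ b := hK ▸ hn ▸ dvd_pow_self r n.pos.ne'
    rwa [← (Nat.prime_dvd_prime_iff_eq hrp hp.out).1 (hrp.dvd_of_dvd_pow hd)]
  have hker : (proj P).ker = ⊥ := by
    rcases eq_or_ne p 3 with rfl | hp3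
    · exact C.ker_eq_bot_three
    · refine C.ker_eq_bot_psl (K := K) (fun h3 => hp3 ?_) e
      exact (Nat.prime_dvd_prime_iff_eq hp.out Nat.prime_three).1 ((CharP.cast_eq_zero_iff K p 3).1 (by exact_mod_cast h3))
  intro g hg
  rcases psl_real_or_char (r := p) (e (proj P ⟨g, hg⟩)) with ⟨h, hh⟩ | h
  · exact real_of_bot hker (g := ⟨g, hg⟩) (pull_conj e hh)
  · have h1 : (⟨g, hg⟩ : P) ^ p = 1 := proj_injective hker (e.injective (by rw [map_pow, map_pow, h, map_one, map_one]))
    have h2 : g ^ p ^ 1 = 1 := by rw [pow_one]; exact congrArg Subtype.val h1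
    have h3 : g⁻¹ ^ p ^ 1 = 1 := by rw [inv_pow, h2, inv_one]
    rw [tr_unipotent h2, tr_unipotent h3]

omit hp in
/-- The group over five elements has real traces. -/
theorem Core.real_of_five (C : Core P) (hK : Fintype.card K = 5)
    (e : Quot3 P ≃* Matrix.ProjectiveSpecialLinearGroup (Fin 2) K) : RealTr P := by
  haveI : CharP K 5 := by
    obtain ⟨r, hr⟩ := CharP.exists K
    obtain ⟨n, hrp, hn⟩ := FiniteField.card K r
    have hd : r ∣ 5 := hK ▸ hn ▸ dvd_pow_self r n.pos.ne'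
    rwa [← (Nat.prime_dvd_prime_iff_eq hrp (by norm_num)).1 hd]
  have hcast : ∀ m : ℕ, ¬ 5 ∣ m → (m : K) ≠ 0 := fun m hm h => hm ((CharP.cast_eq_zero_iff K 5 m).1 h)
  have h5 : (5 : K) = 0 := by exact_mod_cast CharP.cast_eq_zero K 5
  have hker := C.ker_eq_bot_psl (K := K) (by exact_mod_cast hcast 3 (by norm_num)) e
  intro g hg
  obtain ⟨h, hh⟩ := psl_real (K := K) (by exact_mod_cast hcast 2 (by norm_num)) (s := 2)
    (by linear_combination h5) (e (proj P ⟨g, hg⟩))
  exact real_of_bot hker (g := ⟨g, hg⟩) (pull_conj e hh)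

/-- The group over seven elements. -/
theorem Core.seven_traces (C : Core P) (hK : Fintype.card K = 7)
    (e : Quot3 P ≃* Matrix.ProjectiveSpecialLinearGroup (Fin 2) K) (hp7 : p ≠ 7) (hnr : ¬ RealTr P) :
    (Nat.card F = p ∧ (p % 7 = 1 ∨ p % 7 = 2 ∨ p % 7 = 4)) ∨
      (Nat.card F = p ^ 2 ∧ (p % 7 = 3 ∨ p % 7 = 5 ∨ p % 7 = 6) ∧ TwistTr P p) := by
  haveI : Fact (Nat.Prime 7) := ⟨by norm_num⟩
  haveI : CharP K 7 := by
    obtain ⟨r, hr⟩ := CharP.exists K
    obtain ⟨n, hrp, hn⟩ := FiniteField.card K r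
    have hd : r ∣ 7 := hK ▸ hn ▸ dvd_pow_self r n.pos.ne'
    rwa [← (Nat.prime_dvd_prime_iff_eq hrp (by norm_num)).1 hd]
  have hker := C.ker_eq_bot_psl (K := K)
    (fun h3 => absurd ((CharP.cast_eq_zero_iff K 7 3).1 (by exact_mod_cast h3)) (by norm_num)) e
  have hinj := proj_injective hker
  have key : ∀ g ∈ P, (tr g⁻¹ = tr g ∧ tr g ^ p = tr g) ∨
      (((p % 7 = 1 ∨ p % 7 = 2 ∨ p % 7 = 4) → tr g ^ p = tr g) ∧
        ((p % 7 = 3 ∨ p % 7 = 5 ∨ p % 7 = 6) → tr g ^ p = tr g⁻¹)) := by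
    intro g hg
    set x := e (proj P ⟨g, hg⟩) with hx
    have lift : ∀ {n : ℕ}, x ^ n = 1 → g ^ n = 1 := fun {n} h => congrArg Subtype.val
      (hinj (e.injective (by rw [map_pow, map_pow, ← hx, h, map_one, map_one])) : (⟨g, hg⟩ : P) ^ n = 1)
    have hreal : ∀ {n : ℕ}, x ^ n = 1 → n.Coprime 7 → tr g⁻¹ = tr g := fun {n} h hn => by
      rcases psl_real_or_char (r := 7) x with ⟨y, hy⟩ | h7
      · exact real_of_bot hker (g := ⟨g, hg⟩) (pull_conj e (h := y) hy)
      · have h1 := pow_gcd_eq_one.2 ⟨h, h7⟩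
        rw [hn.gcd_eq_one] at h1
        have h2 := lift h1
        rw [pow_one] at h2
        rw [h2, inv_one]
    rcases psl_seven_orders hK x with h | h | h
    · refine Or.inl ⟨hreal h (by norm_num), real_frob (lift h) (hreal h (by norm_num)) ?_⟩
      rcases eq_or_ne p 3 with rfl | hp3
      · exact Or.inr (Or.inr ⟨1, rfl⟩)
      · have : ¬ 3 ∣ p := fun hd => hp3 ((Nat.prime_dvd_prime_iff_eq Nat.prime_three hp.out).1 hd).symm
        omega
    · refine Or.inl ⟨hreal h (by norm_num), real_frob (lift h) (hreal h (by norm_num)) ?_⟩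
      rcases hp.out.eq_two_or_odd with h2 | h2
      · exact Or.inr (Or.inr ⟨2, by rw [h2]; rfl⟩)
      · omega
    · obtain ⟨y, hy⟩ := psl_seven_conj hK x h
      obtain ⟨k, hk⟩ := QuotientGroup.mk'_surjective _ (e.symm y)
      have hk' : k * ⟨g, hg⟩ * k⁻¹ = (⟨g, hg⟩ : P) * ⟨g, hg⟩ := hinj (e.injective (by
        simp only [map_mul, map_inv, hk, MulEquiv.apply_symm_apply, ← hx, hy]))
      exact Or.inr (seven_frob (h := (k : GG)) (lift h) (congrArg Subtype.val hk'))
  have h7 : p % 7 ≠ 0 := fun h => hp7 ((Nat.prime_dvd_prime_iff_eq (by norm_num) hp.out).1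
    (Nat.dvd_of_mod_eq_zero h)).symm
  by_cases hA : p % 7 = 1 ∨ p % 7 = 2 ∨ p % 7 = 4
  · refine Or.inl ⟨?_, hA⟩
    have h := C.card_le (e := 1) one_pos fun g hg => by
      rw [pow_one]
      exact (key g hg).elim (·.2) fun h => h.1 hA
    rw [pow_one] at h
    rcases card_cases (e := 1) (by simpa using h) (by norm_num) with h' | h'
    · exact h'
    · exfalso
      rw [h', pow_two] at h
      have := hp.out.two_le
      nlinarith
  · have hB : p % 7 = 3 ∨ p % 7 = 5 ∨ p % 7 = 6 := by omega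
    have tw : TwistTr P p := fun g hg => (key g hg).elim (fun h => h.1.trans h.2.symm) fun h => (h.2 hB).symm
    refine Or.inr ⟨?_, hB, tw⟩
    rcases card_cases (C.card_le (e := 2) (by norm_num) fun g hg => by
      rw [pow_two, pow_mul, ← tw g hg, ← tw _ (P.inv_mem hg), inv_inv]) le_rfl with h' | h'
    · exact absurd (fun g hg => (tw g hg).trans (pow_eq_self_of_card h' _)) hnr
    · exact h'

end psl

omit hp in
theorem Core.partner (C : Core P) [Fact (Nat.Prime 3)] (hker : (proj P).ker ≠ ⊥)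
    (hT : ∀ S : Sylow 3 (Quot3 P), Nat.card S = 9) {g : P} (h3 : proj P g ^ 3 = 1) (h1 : proj P g ≠ 1) :
    tr (g : GG) = 0 := by
  obtain ⟨k, hk, hk1⟩ := C.isCover.exists_partner hker hT h3 h1
  obtain ⟨c, -, hc⟩ := C.scalar (g := ((k * g * k⁻¹ * g⁻¹ : P) : GG)) (SetLike.coe_mem _) (mem_ker_proj.1 hk)
  have hc1 : c ≠ 1 := fun e => hk1 (Subtype.ext (Units.ext (by rw [hc, e, one_smul]; rfl)))
  have h : ((((k * g * k⁻¹ : P)) : GG) : MM) = c • ((g : GG) : MM) := by
    rw [show k * g * k⁻¹ = k * g * k⁻¹ * g⁻¹ * g from (inv_mul_cancel_right _ _).symm, Subgroup.coe_mul,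
      Units.val_mul, hc, Matrix.smul_mul, Matrix.one_mul]
  have h2 := tr_smul h
  simp only [Subgroup.coe_mul, Subgroup.coe_inv, tr_conj] at h2
  have h3' : (1 - c) * tr (g : GG) = 0 := by linear_combination h2
  exact (mul_eq_zero.1 h3').resolve_left (sub_ne_zero.2 (Ne.symm hc1))

omit hp in
theorem sylow_three_nine {T : Type*} [Group T] [Finite T] [Fact (Nat.Prime 3)] {m : ℕ} (h : Nat.card T = 9 * m)
    (hm : ¬ 3 ∣ m) (S : Sylow 3 T) : Nat.card S = 9 := by
  rw [Sylow.card_eq_multiplicity, h, show (9 : ℕ) = 3 ^ 2 by norm_num, Nat.factorization_mul (by norm_num)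
    (fun e => hm (by rw [e]; exact dvd_zero 3)), Nat.Prime.factorization_pow Nat.prime_three]
  simp [Nat.factorization_eq_zero_of_not_dvd hm]

omit hp in
theorem card_quot_alt {n : ℕ} [Nontrivial (Fin n)] (e : Quot3 P ≃* alternatingGroup (Fin n)) :
    Nat.card (Quot3 P) = n.factorial / 2 := by
  rw [Nat.card_congr e.toEquiv, nat_card_alternatingGroup, Nat.card_eq_fintype_card, Fintype.card_fin]

/-- The alternating group of degree six. -/
theorem Core.six_traces (C : Core P) (e : Quot3 P ≃* alternatingGroup (Fin 6)) (hnr : ¬ RealTr P) :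
    p ≠ 3 ∧ ((Nat.card F = p ∧ (p % 15 = 1 ∨ p % 15 = 4)) ∨
      (Nat.card F = p ^ 2 ∧ (p % 5 = 2 ∨ p % 5 = 3) ∧ ∃ g ∈ P, tr g⁻¹ = tr g ∧ tr g ^ p ≠ tr g) ∨
      (Nat.card F = p ^ 2 ∧ (p % 15 = 11 ∨ p % 15 = 14 ∨ p = 5) ∧ TwistTr P p)) := by
  classical
  haveI : Fact (Nat.Prime 3) := ⟨Nat.prime_three⟩
  haveI : Fact (Nat.Prime 5) := ⟨by norm_num⟩
  let K := GaloisField 3 2
  haveI : Fintype K := Fintype.ofFinite K
  have hK : Fintype.card K = 9 := by rw [← Nat.card_eq_fintype_card, GaloisField.card 3 2 (by norm_num)]; norm_num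
  obtain ⟨e6⟩ := Cfsg.Lib.Classical.PSLNine.psl_nine hK
  have hreal : ∀ x : Quot3 P, ∃ h, h * x * h⁻¹ = x⁻¹ := fun x => by
    have h2 : (2 : K) ≠ 0 := fun h => absurd ((CharP.cast_eq_zero_iff K 3 2).1 (by exact_mod_cast h)) (by norm_num)
    obtain ⟨s, hs⟩ : IsSquare (-1 : K) := FiniteField.isSquare_neg_one_iff.2 (by rw [hK]; norm_num)
    obtain ⟨h, hh⟩ := psl_real h2 hs.symm ((e.trans e6.symm) x)
    exact ⟨(e.trans e6.symm).symm h, (e.trans e6.symm).injective (by
      simp only [map_mul, map_inv, MulEquiv.apply_symm_apply]; exact hh)⟩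
  have hker : (proj P).ker ≠ ⊥ := fun hb => hnr fun g hg =>
    real_of_bot hb (g := ⟨g, hg⟩) (hreal _).choose_spec
  have hp3 : p ≠ 3 := by
    rintro rfl
    exact hker C.ker_eq_bot_three
  refine ⟨hp3, ?_⟩
  have h360 : Nat.card (Quot3 P) = 360 := by rw [card_quot_alt e]; rfl
  have hT : ∀ S : Sylow 3 (Quot3 P), Nat.card S = 9 :=
    sylow_three_nine (m := 40) (by rw [h360]) (by norm_num)
  have hp3' : p % 3 ≠ 0 := fun h => hp3 ((Nat.prime_dvd_prime_iff_eq Nat.prime_three hp.out).1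
    (Nat.dvd_of_mod_eq_zero h)).symm
  have hp5' : p % 5 = 0 → p = 5 := fun h => ((Nat.prime_dvd_prime_iff_eq (by norm_num) hp.out).1
    (Nat.dvd_of_mod_eq_zero h)).symm
  have five : ∀ g : P, g ^ 5 = 1 → tr (g : GG) ^ p = tr (g : GG) ∨
      ((p % 5 = 2 ∨ p % 5 = 3) ∧ tr (g : GG) ^ p = 1 - tr (g : GG) ∧ tr (g : GG) ^ 2 - tr (g : GG) - 1 = 0) := by
    intro g h5
    have h5' : (g : GG) ^ 5 = 1 := congrArg Subtype.val h5
    have hr := C.real_of_quot h5 (by norm_num) (hreal _).choose_spec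
    by_cases hF : p % 5 = 1 ∨ p % 5 = 4 ∨ p = 5
    · refine Or.inl (real_frob h5' hr ?_)
      rcases hF with h | h | h
      · exact Or.inl h
      · exact Or.inr (Or.inl (by omega))
      · exact Or.inr (Or.inr ⟨1, by rw [h, pow_one]⟩)
    · have hF' : p % 5 = 2 ∨ p % 5 = 3 := by omega
      rcases eq_or_ne g 1 with rfl | hg1
      · left
        rw [OneMemClass.coe_one, tr_one, three_pow]
      obtain ⟨k, hk⟩ := QuotientGroup.mk'_surjective _ (hreal (proj P g)).choose
      have hc : k * g * k⁻¹ = g⁻¹ := by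
        have := C.lift_conj h5 (by norm_num) (m := -1) (h := k) (by
          rw [_root_.zpow_neg_one, map_mul, map_mul, map_inv, map_inv, hk]; exact (hreal _).choose_spec)
        rwa [_root_.zpow_neg_one] at this
      obtain ⟨r1, r2, -⟩ := five_relation (p := p) (h := (k : GG)) (C.det g.2) h5' (congrArg Subtype.val hc)
        (by omega) (fun e => hg1 (Subtype.ext e))
      refine Or.inr ⟨hF', ?_, r1⟩
      have h0 := tr_pow_char (p := p) (g : GG) 1
      rw [pow_one] at h0
      have hmod : (g : GG) ^ p = (g : GG) ^ (p % 5) := by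
        conv_lhs => rw [← Nat.mod_add_div p 5, pow_add, pow_mul, h5', one_pow, mul_one]
      rw [← h0, hmod]
      rcases hF' with h | h <;> rw [h]
      · rw [pow_two, r2]; linear_combination r1
      · have e3 : (g : GG) ^ 3 = (k : GG) * ((g : GG) * g) * (k : GG)⁻¹ := by
          have hc' : (k : GG) * g * (k : GG)⁻¹ = (g : GG)⁻¹ := congrArg Subtype.val hc
          rw [show (k : GG) * ((g : GG) * g) * (k : GG)⁻¹ =
            (k : GG) * g * (k : GG)⁻¹ * ((k : GG) * g * (k : GG)⁻¹) by group, hc', ← _root_.mul_inv_rev]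
          refine eq_inv_of_mul_eq_one_left ?_
          rw [← pow_two, ← pow_add, h5']
        rw [e3, tr_conj, r2]; linear_combination r1
  have key : ∀ g ∈ P, ∃ c t₀ : F, c ^ 3 = 1 ∧ tr g = c * t₀ ∧ tr g⁻¹ = c ^ 2 * t₀ ∧ (t₀ ^ p = t₀ ∨
      ((p % 5 = 2 ∨ p % 5 = 3) ∧ t₀ ^ p = 1 - t₀ ∧ t₀ ^ 2 - t₀ - 1 = 0)) := by
    intro g hg
    set x := e (proj P ⟨g, hg⟩) with hx
    have back : ∀ {n : ℕ}, x ^ n = 1 → proj P ⟨g, hg⟩ ^ n = 1 := fun {n} h =>
      e.injective (by rw [map_pow, ← hx, h, map_one])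
    have four : x ^ 4 = 1 → ∃ c t₀ : F, c ^ 3 = 1 ∧ tr g = c * t₀ ∧ tr g⁻¹ = c ^ 2 * t₀ ∧ (t₀ ^ p = t₀ ∨
        ((p % 5 = 2 ∨ p % 5 = 3) ∧ t₀ ^ p = 1 - t₀ ∧ t₀ ^ 2 - t₀ - 1 = 0)) := fun h => by
      obtain ⟨g₀, c, h4, hc, hgc, hπ⟩ := C.exists_lift (back h) (by norm_num)
      obtain ⟨t1, t2⟩ := tr_decomp hc hgc
      have hr := C.real_of_quot h4 (by norm_num) (hreal _).choose_spec
      refine ⟨c, tr (g₀ : GG), hc, t1, by rw [t2, hr], Or.inl (real_frob (congrArg Subtype.val h4) hr ?_)⟩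
      rcases hp.out.eq_two_or_odd with h2 | h2
      · exact Or.inr (Or.inr ⟨2, by rw [h2]; rfl⟩)
      · omega
    rcases alt_six_orders x with h | h | h
    · by_cases h1 : x = 1
      · exact four (by rw [h1, one_pow])
      have hne : proj P ⟨g, hg⟩ ≠ 1 := fun e' => h1 (by rw [hx, e', map_one])
      refine ⟨1, 0, one_pow _, by rw [mul_zero]; exact C.partner hker hT (back h) hne, ?_, Or.inl ?_⟩
      · rw [mul_zero]
        refine C.partner hker hT (g := (⟨g, hg⟩ : P)⁻¹) (by rw [map_inv, inv_pow, back h, inv_one]) ?_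
        rwa [map_inv, ne_eq, inv_eq_one]
      · rw [zero_pow hp.out.ne_zero]
    · exact four h
    · obtain ⟨g₀, c, h5, hc, hgc, hπ⟩ := C.exists_lift (back h) (by norm_num)
      obtain ⟨t1, t2⟩ := tr_decomp hc hgc
      have hr := C.real_of_quot h5 (by norm_num) (hreal _).choose_spec
      exact ⟨c, tr (g₀ : GG), hc, t1, by rw [t2, hr], five g₀ h5⟩
  by_cases hF5 : p % 5 = 2 ∨ p % 5 = 3
  · refine Or.inr (Or.inl ?_)
    have hp5 : p ≠ 5 := by omega
    obtain ⟨y, hy⟩ := exists_prime_orderOf_dvd_card' (G := Quot3 P) 5 (by rw [h360]; norm_num)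
    obtain ⟨g, rfl⟩ := QuotientGroup.mk'_surjective _ y
    obtain ⟨g₀, c, h5, -, -, hπ⟩ := C.exists_lift (g := g) (n := 5) (by rw [← hy]; exact pow_orderOf_eq_one _) (by norm_num)
    have hg0 : g₀ ≠ 1 := fun e' => by
      rw [e', map_one] at hπ
      rw [← hπ, orderOf_one] at hy
      omega
    have hr := C.real_of_quot h5 (by norm_num) (hreal _).choose_spec
    have hne : tr (g₀ : GG) ^ p ≠ tr (g₀ : GG) := by
      intro hfix
      obtain ⟨k, hk⟩ := QuotientGroup.mk'_surjective _ (hreal (proj P g₀)).choose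
      have hc : k * g₀ * k⁻¹ = g₀⁻¹ := by
        have := C.lift_conj h5 (by norm_num) (m := -1) (h := k) (by
          rw [_root_.zpow_neg_one, map_mul, map_mul, map_inv, map_inv, hk]; exact (hreal _).choose_spec)
        rwa [_root_.zpow_neg_one] at this
      obtain ⟨r1, r2, -⟩ := five_relation (p := p) (h := (k : GG)) (C.det g₀.2) (congrArg Subtype.val h5)
        (congrArg Subtype.val hc) hp5 (fun e => hg0 (Subtype.ext e))
      have hpr : tr (g₀ : GG) ^ p = 1 - tr (g₀ : GG) := by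
        have h0 := tr_pow_char (p := p) (g₀ : GG) 1
        rw [pow_one] at h0
        have h5' : (g₀ : GG) ^ 5 = 1 := congrArg Subtype.val h5
        have hmod : (g₀ : GG) ^ p = (g₀ : GG) ^ (p % 5) := by
          conv_lhs => rw [← Nat.mod_add_div p 5, pow_add, pow_mul, h5', one_pow, mul_one]
        rw [← h0, hmod]
        rcases hF5 with h | h <;> rw [h]
        · rw [pow_two, r2]; linear_combination r1
        · have e3 : (g₀ : GG) ^ 3 = (k : GG) * ((g₀ : GG) * g₀) * (k : GG)⁻¹ := by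
            have hc' : (k : GG) * g₀ * (k : GG)⁻¹ = (g₀ : GG)⁻¹ := congrArg Subtype.val hc
            rw [show (k : GG) * ((g₀ : GG) * g₀) * (k : GG)⁻¹ =
              (k : GG) * g₀ * (k : GG)⁻¹ * ((k : GG) * g₀ * (k : GG)⁻¹) by group, hc', ← _root_.mul_inv_rev]
            refine eq_inv_of_mul_eq_one_left ?_
            rw [← pow_two, ← pow_add, h5']
          rw [e3, tr_conj, r2]; linear_combination r1
      have h5z : (5 : F) = 0 := by linear_combination -4 * r1 + (2 * tr (g₀ : GG) - 1) * (hfix.symm.trans hpr)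
      exact hp5 ((Nat.prime_dvd_prime_iff_eq hp.out (by norm_num)).1 ((CharP.cast_eq_zero_iff F p 5).1 (by exact_mod_cast h5z)))
    refine ⟨?_, hF5, g₀, g₀.2, hr, hne⟩
    rcases card_cases (C.card_le (e := 2) (by norm_num) fun g hg => by
      obtain ⟨c, t₀, hc, ht, -, h⟩ := key g hg
      have hc2 : c ^ p ^ 2 = c := by
        rw [cube_pow hc, Nat.pow_mod]
        rcases (show p % 3 = 1 ∨ p % 3 = 2 by omega) with e' | e' <;> rw [e'] <;> norm_num
      have ht2 : t₀ ^ p ^ 2 = t₀ := by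
        rw [pow_two, pow_mul]
        rcases h with h | ⟨-, h, -⟩
        · rw [h, h]
        · rw [h, sub_pow_char, one_pow, h]; ring
      rw [ht, mul_pow, hc2, ht2]) le_rfl with h' | h'
    · exact absurd (pow_eq_self_of_card h' _) hne
    · exact h'
  · have hfix : ∀ g ∈ P, ∃ c t₀ : F, c ^ 3 = 1 ∧ tr g = c * t₀ ∧ tr g⁻¹ = c ^ 2 * t₀ ∧ t₀ ^ p = t₀ := fun g hg => by
      obtain ⟨c, t₀, hc, h1, h2, h | ⟨h, -⟩⟩ := key g hg
      · exact ⟨c, t₀, hc, h1, h2, h⟩
      · exact absurd h hF5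
    rcases (show p % 3 = 1 ∨ p % 3 = 2 by omega) with h3 | h3
    · refine Or.inl ⟨?_, by have := hp5'; omega⟩
      have h := C.card_le (e := 1) one_pos fun g hg => by
        obtain ⟨c, t₀, hc, h1, -, h2⟩ := hfix g hg
        rw [pow_one, h1, mul_pow, h2, cube_pow hc p, h3, pow_one]
      rcases card_cases h (by norm_num) with h' | h'
      · exact h'
      · exfalso
        rw [h', pow_one, pow_two] at h
        have := hp.out.two_le
        nlinarith
    · have tw : TwistTr P p := fun g hg => by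
        obtain ⟨c, t₀, hc, h1, h2, h⟩ := hfix g hg
        rw [h2, h1, mul_pow, h, cube_pow hc p, h3]
      refine Or.inr (Or.inr ⟨?_, by have := hp5'; omega, tw⟩)
      rcases card_cases (C.card_le (e := 2) (by norm_num) fun g hg => by
        rw [pow_two, pow_mul, ← tw g hg, ← tw _ (P.inv_mem hg), inv_inv]) le_rfl with h' | h'
      · exact absurd (fun g hg => (tw g hg).trans (pow_eq_self_of_card h' _)) hnr
      · exact h'

omit hp in
/-- The alternating group of degree seven in characteristic five. -/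
theorem Core.alt_seven_traces [CharP F 5] (C : Core P) (e : Quot3 P ≃* alternatingGroup (Fin 7))
    (hnr : ¬ RealTr P) : Nat.card F = 5 ^ 2 ∧ TwistTr P 5 := by
  haveI : Fact (Nat.Prime 3) := ⟨Nat.prime_three⟩
  haveI : Fact (Nat.Prime 5) := ⟨by norm_num⟩
  have hT : ∀ S : Sylow 3 (Quot3 P), Nat.card S = 9 :=
    sylow_three_nine (m := 280) (by rw [card_quot_alt e]; rfl) (by norm_num)
  have tw : TwistTr P 5 := by
    intro g hg
    set x := e (proj P ⟨g, hg⟩) with hx
    have back : ∀ {n : ℕ}, x ^ n = 1 → proj P ⟨g, hg⟩ ^ n = 1 := fun {n} h =>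
      e.injective (by rw [map_pow, ← hx, h, map_one])
    have h0 := tr_pow_char (p := 5) g 1
    rw [pow_one] at h0
    have red : ∀ (g₀ : P) (c : F), c ^ 3 = 1 → (g : MM) = c • ((g₀ : GG) : MM) →
        tr (g₀ : GG)⁻¹ = tr (g₀ : GG) ^ 5 → tr g⁻¹ = tr g ^ 5 := fun g₀ c hc hgc h => by
      obtain ⟨t1, t2⟩ := tr_decomp hc hgc
      rw [t2, t1, mul_pow, h, cube_pow hc 5]
    rcases alt_seven_orders x with h | h | h | h
    · obtain ⟨g₀, c, h4, hc, hgc, hπ⟩ := C.exists_lift (back h) (by norm_num)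
      obtain ⟨k, hk⟩ := alt_real_four x h
      have hr := C.real_of_quot h4 (by norm_num) (h := e.symm k) (by rw [hπ]; exact pull_conj e (by rw [← hx]; exact hk))
      refine red g₀ c hc hgc ?_
      rw [hr, real_frob (p := 5) (congrArg Subtype.val h4) hr (Or.inl (by norm_num))]
    · obtain ⟨g₀, c, h5, hc, hgc, hπ⟩ := C.exists_lift (back h) (by norm_num)
      have h5' : (g₀ : GG) ^ 5 ^ 1 = 1 := congrArg Subtype.val h5
      refine red g₀ c hc hgc ?_
      rw [tr_unipotent h5', tr_unipotent (k := 1) (by rw [inv_pow, h5', inv_one]), three_pow]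
    · have h6 : g ^ 6 = 1 := by
        by_cases hker : (proj P).ker = ⊥
        · exact congrArg Subtype.val (proj_injective hker (by rw [map_pow, back h, map_one]) : (⟨g, hg⟩ : P) ^ 6 = 1)
        rw [show 6 = 2 * 3 by norm_num, pow_mul]
        set y : P := ⟨g, hg⟩ ^ 2 with hy
        have hy3 : proj P y ^ 3 = 1 := by rw [hy, map_pow, ← pow_mul]; exact back h
        have hyv : (y : GG) = g ^ 2 := rfl
        rw [← hyv]
        by_cases hy1 : proj P y = 1
        · obtain ⟨c, hc3, hc⟩ := C.scalar y.2 (mem_ker_proj.1 hy1)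
          refine Units.ext ?_
          rw [Units.val_pow_eq_pow_val, hc, _root_.smul_pow, one_pow, hc3, one_smul, Units.val_one]
        · have t1 := C.partner hker hT hy3 hy1
          have t2 := C.partner hker hT (g := y⁻¹) (by rw [map_inv, inv_pow, hy3, inv_one])
            (by rwa [map_inv, ne_eq, inv_eq_one])
          have hcay := cayley (C.det y.2)
          rw [Subgroup.coe_inv] at t2
          rw [t1, t2, zero_smul, zero_smul, sub_zero, add_zero, sub_eq_zero] at hcay
          exact Units.ext (by rw [Units.val_pow_eq_pow_val, hcay, Units.val_one])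
      rw [← h0, eq_inv_of_mul_eq_one_left (show g ^ 5 * g = 1 by rw [← pow_succ, h6])]
    · obtain ⟨g₀, c, h7, hc, hgc, hπ⟩ := C.exists_lift (back h) (by norm_num)
      obtain ⟨k, hk⟩ := alt_seven_conj x h
      obtain ⟨k', hk'⟩ := QuotientGroup.mk'_surjective _ (e.symm k)
      have hlift := C.lift_conj h7 (by norm_num) (m := 2) (h := k') (e.injective (by
        simp only [map_mul, map_inv, map_zpow, hk', MulEquiv.apply_symm_apply, hπ, ← hx, zpow_two]
        exact hk))
      refine red g₀ c hc hgc ((seven_frob (p := 5) (h := (k' : GG)) (congrArg Subtype.val h7) ?_).2 (by norm_num)).symm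
      have := congrArg Subtype.val hlift
      simpa [zpow_two, pow_two] using this
  refine ⟨?_, tw⟩
  rcases card_cases (C.card_le (p := 5) (e := 2) (by norm_num) fun g hg => by
    rw [pow_two, pow_mul, ← tw g hg, ← tw _ (P.inv_mem hg), inv_inv]) le_rfl with h' | h'
  · exact absurd (fun g hg => (tw g hg).trans (pow_eq_self_of_card h' _)) hnr
  · exact h'

end Cfsg.Lib.MitchellThree.Residual
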